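import Groth.Agent.Lib.FlatCx.Exact
import Groth.Agent.Lib.FlatH4.LocCrit
import Mathlib.RingTheory.LocalRing.Module

/-!
# Exactness criteria for flat complexes over local rings
-/

universe u

open CategoryTheory Groth.Agent.DMod
open scoped TensorProduct MonoidalCategory

noncomputable section

namespace Groth.Agent.FlatCxLib

variable {A : Type u} [CommRing A] [IsLocalRing A] (P : ChainComplex (ModuleCat.{u} A) ℤ)

/-- `T_p(A) → T_p(k)`. -/
abbrev toResidue (p : ℤ) :=
  ((CohIII.TFun P p).map (ModuleCat.ofHom (Algebra.linearMap A (IsLocalRing.ResidueField A)))).hom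

variable [hP : ∀ i, Module.Flat A (P.X i)]

theorem surjective_residue_iff {p q : ℤ} (hpq : q + 1 = p) :
    Function.Surjective (toResidue P p) ↔
      Function.Injective ((IsLocalRing.maximalIdeal A).subtype.lTensor (Cok P q)) :=
  map_surjective_iff_injective P (K := ModuleCat.of A (IsLocalRing.maximalIdeal A))
    (M := ModuleCat.of A A) (N := ModuleCat.of A (IsLocalRing.ResidueField A))
    (ModuleCat.ofHom (IsLocalRing.maximalIdeal A).subtype)
    (ModuleCat.ofHom (Algebra.linearMap A (IsLocalRing.ResidueField A)))
    (Submodule.injective_subtype _) IsLocalRing.residue_surjective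
    (fun x => Ideal.Quotient.eq_zero_iff_mem.trans
      ⟨fun hx => ⟨⟨x, hx⟩, rfl⟩, fun ⟨y, hy⟩ => hy ▸ y.2⟩) hpq

theorem free_cok_of_surjective_residue [IsNoetherianRing A] [∀ i, Module.Finite A (P.X i)] {p q : ℤ}
    (hpq : q + 1 = p) (h : Function.Surjective (toResidue P p)) : Module.Free A (Cok P q) := by
  have := Module.finitePresentation_of_finite A (Cok P q)
  exact Module.free_of_maximalIdeal_rTensor_injective
    ((LinearMap.lTensor_inj_iff_rTensor_inj _ _).1 ((surjective_residue_iff P hpq).1 h))

theorem flat_cok_of_surjective_residue [IsArtinianRing A] {p q : ℤ}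
    (hpq : q + 1 = p) (h : Function.Surjective (toResidue P p)) : Module.Flat A (Cok P q) :=
  Groth.Agent.FlatH4.flat_of_isNilpotent (IsLocalRing.maximalIdeal A)
    (by rw [← IsLocalRing.jacobson_eq_maximalIdeal ⊥ bot_ne_top]; exact IsArtinianRing.isNilpotent_jacobson_bot) ((surjective_residue_iff P hpq).1 h)
    (inferInstanceAs (Module.Flat (IsLocalRing.ResidueField A) (IsLocalRing.ResidueField A ⊗[A] Cok P q)))

omit hP in
theorem surjective_residue_of_preservesEpi (p : ℤ) (h : (CohIII.TFun P p).PreservesEpimorphisms) :
    Function.Surjective (toResidue P p) :=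
  Tmap_surjective P p h IsLocalRing.residue_surjective

theorem preservesEpi_iff_surjective [IsNoetherianRing A] [∀ i, Module.Finite A (P.X i)] (p : ℤ) :
    (CohIII.TFun P p).PreservesEpimorphisms ↔ Function.Surjective (toResidue P p) := by
  refine ⟨surjective_residue_of_preservesEpi P p, fun h => ?_⟩
  have := free_cok_of_surjective_residue P (sub_add_cancel p 1) h
  exact (preservesEpi_iff P (sub_add_cancel p 1)).2 inferInstance

theorem preservesEpi_iff_surjective_artinian [IsArtinianRing A] (p : ℤ) :
    (CohIII.TFun P p).PreservesEpimorphisms ↔ Function.Surjective (toResidue P p) :=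
  ⟨surjective_residue_of_preservesEpi P p, fun h =>
    (preservesEpi_iff P (sub_add_cancel p 1)).2 (flat_cok_of_surjective_residue P (sub_add_cancel p 1) h)⟩

omit hP [IsLocalRing A] in
theorem finite_H [IsNoetherianRing A] [∀ i, Module.Finite A (P.X i)] (p : ℤ) :
    Module.Finite A (H P p) := by
  have : Module.Finite A ((CohIII.tensorObj P (ModuleCat.of A A)).X p) :=
    inferInstanceAs (Module.Finite A (P.X p ⊗[A] A))
  have : Module.Finite A ((CohIII.tensorObj P (ModuleCat.of A A)).cycles p) :=
    Module.Finite.of_injective ((CohIII.tensorObj P (ModuleCat.of A A)).iCycles p).hom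
      (iCycles_injective _ p)
  exact Module.Finite.of_surjective ((CohIII.tensorObj P (ModuleCat.of A A)).homologyπ p).hom
    (homologyπ_surjective _ p)

theorem preservesEpi_of_subsingleton [IsNoetherianRing A] [∀ i, Module.Finite A (P.X i)] (p : ℤ)
    [Subsingleton (CohIII.T P p (ModuleCat.of A (IsLocalRing.ResidueField A)))] :
    (CohIII.TFun P p).PreservesEpimorphisms :=
  (preservesEpi_iff_surjective P p).2 fun y =>
    ⟨0, Subsingleton.elim (α := CohIII.T P p (ModuleCat.of A (IsLocalRing.ResidueField A))) _ _⟩

theorem subsingleton_of_subsingleton_residue [IsNoetherianRing A] [∀ i, Module.Finite A (P.X i)] (p : ℤ)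
    [Subsingleton (CohIII.T P p (ModuleCat.of A (IsLocalRing.ResidueField A)))] (M : ModuleCat.{u} A) :
    Subsingleton (CohIII.T P p M) := by
  have := finite_H P p
  have h := preservesEpi_of_subsingleton P p
  have : Subsingleton (IsLocalRing.ResidueField A ⊗[A] H P p) :=
    ((TensorProduct.comm A _ _).toEquiv.trans
      (LinearEquiv.ofBijective _ (theta_bijective P p h (IsLocalRing.ResidueField A))).toEquiv).subsingleton
  have : Subsingleton (H P p) := IsLocalRing.subsingleton_tensorProduct.1 this
  exact (theta_surjective P p h M).subsingleton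

end Groth.Agent.FlatCxLib
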