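import Groth.Agent.Lib.FlatCx.Fiber
import Mathlib.LinearAlgebra.TensorProduct.Tower
import Mathlib.RingTheory.LocalRing.ResidueField.Ideal

/-!
# Iterated base change; fibre ranks under base change
-/

universe u

open CategoryTheory
open scoped TensorProduct

noncomputable section

namespace Groth.Agent.FlatCxLib

variable {A : Type u} [CommRing A] (P : ChainComplex (ModuleCat.{u} A) ℤ)
  (R S : Type u) [CommRing R] [CommRing S] [Algebra A R] [Algebra A S] [Algebra R S] [IsScalarTower A R S]

/-- Degreewise iterated base change. -/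
def bcTransX (i : ℤ) :
    (CohIII.bcCx (algebraMap R S) (CohIII.bcCx (algebraMap A R) P)).X i ≃ₗ[S]
      (CohIII.bcCx (algebraMap A S) P).X i :=
  (extEquiv S ((CohIII.bcCx (algebraMap A R) P).X i)).trans
    ((TensorProduct.AlgebraTensorModule.congr (LinearEquiv.refl S S) (extEquiv R (P.X i))).trans
      ((TensorProduct.AlgebraTensorModule.cancelBaseChange A R S S (P.X i)).trans (extEquiv S (P.X i)).symm))

omit [IsScalarTower A R S] in
theorem baseChange_cancel [IsScalarTower A R S] {X Y : Type u} [AddCommGroup X] [Module A X] [AddCommGroup Y]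
    [Module A Y] {U V : Type u} [AddCommGroup U] [Module R U] [AddCommGroup V] [Module R V] (g : X →ₗ[A] Y)
    (f : U →ₗ[R] V) (eU : U ≃ₗ[R] R ⊗[A] X) (eV : V ≃ₗ[R] R ⊗[A] Y)
    (he : ∀ u, eV (f u) = g.baseChange R (eU u)) (y : S ⊗[R] U) :
    g.baseChange S (TensorProduct.AlgebraTensorModule.cancelBaseChange A R S S X
        (TensorProduct.AlgebraTensorModule.congr (LinearEquiv.refl S S) eU y)) =
      TensorProduct.AlgebraTensorModule.cancelBaseChange A R S S Y
        (TensorProduct.AlgebraTensorModule.congr (LinearEquiv.refl S S) eV (f.baseChange S y)) := by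
  induction y using TensorProduct.induction_on with
  | zero => simp
  | add a b ha hb => simp only [map_add, ha, hb]
  | tmul s m =>
    rw [LinearMap.baseChange_tmul, TensorProduct.AlgebraTensorModule.congr_tmul,
      TensorProduct.AlgebraTensorModule.congr_tmul, he]
    generalize eU m = z
    induction z using TensorProduct.induction_on with
    | zero => simp
    | tmul r a => simp
    | add a b ha hb => simp only [LinearEquiv.refl_apply, TensorProduct.tmul_add, map_add] at ha hb ⊢; rw [ha, hb]

theorem bcTransX_d (i j : ℤ) (x : (CohIII.bcCx (algebraMap R S) (CohIII.bcCx (algebraMap A R) P)).X i) :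
    dl (CohIII.bcCx (algebraMap A S) P) i j (bcTransX P R S i x) =
      bcTransX P R S j (dl (CohIII.bcCx (algebraMap R S) (CohIII.bcCx (algebraMap A R) P)) i j x) := by
  refine (extEquiv S (P.X j)).injective ((extEquiv_map S (P.d i j) _).trans ?_)
  refine Eq.trans ?_ ((extEquiv S (P.X j)).apply_symm_apply _).symm
  refine Eq.trans (congrArg _ ((extEquiv S (P.X i)).apply_symm_apply _)) ?_
  exact (baseChange_cancel R S (P.d i j).hom ((CohIII.bcCx (algebraMap A R) P).d i j).hom (extEquiv R (P.X i))
    (extEquiv R (P.X j)) (extEquiv_map R (P.d i j)) _).trans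
      (congrArg (fun z => TensorProduct.AlgebraTensorModule.cancelBaseChange A R S S (P.X j)
        (TensorProduct.AlgebraTensorModule.congr (LinearEquiv.refl S S) (extEquiv R (P.X j)) z))
        (extEquiv_map S ((CohIII.bcCx (algebraMap A R) P).d i j) x).symm)

/-- Iterated base change. -/
def bcTrans : CohIII.bcCx (algebraMap R S) (CohIII.bcCx (algebraMap A R) P) ≅ CohIII.bcCx (algebraMap A S) P :=
  HomologicalComplex.Hom.isoOfComponents (fun i => (bcTransX P R S i).toModuleIso)
    fun i j _ => ModuleCat.hom_ext (LinearMap.ext fun x => bcTransX_d P R S i j x)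

theorem finrank_homology_bc (p : ℤ) :
    Module.finrank S ((CohIII.bcCx (algebraMap R S) (CohIII.bcCx (algebraMap A R) P)).homology p) =
      Module.finrank S ((CohIII.bcCx (algebraMap A S) P).homology p) :=
  ((HomologicalComplex.homologyFunctor (ModuleCat.{u} S) (ComplexShape.down ℤ) p).mapIso
    (bcTrans P R S)).toLinearEquiv.finrank_eq

theorem finrank_homology_field {K L : Type u} [Field K] [Field L] [Algebra K L]
    (Q : ChainComplex (ModuleCat.{u} K) ℤ) (p : ℤ) :
    Module.finrank L ((CohIII.bcCx (algebraMap K L) Q).homology p) = Module.finrank K (Q.homology p) := by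
  rw [← (homologyBaseChange Q L (sub_add_cancel p 1)
    ((preservesEpi_iff Q (sub_add_cancel p 1)).2 inferInstance)).finrank_eq, Module.finrank_baseChange]
  exact (unitEquiv Q p).finrank_eq

theorem dRank_bcCx (A' : Type u) [CommRing A'] [Algebra A A'] (p : ℤ) (x' : PrimeSpectrum A') :
    CohIII.dRank (CohIII.bcCx (algebraMap A A') P) p x' =
      CohIII.dRank P p (PrimeSpectrum.comap (algebraMap A A') x') := by
  let q := (PrimeSpectrum.comap (algebraMap A A') x').asIdeal
  let K := q.ResidueField
  let L := x'.asIdeal.ResidueField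
  let f : K →+* L := Ideal.ResidueField.map q x'.asIdeal (algebraMap A A') rfl
  let : Algebra K L := f.toAlgebra
  have : IsScalarTower A K L := IsScalarTower.of_algebraMap_eq fun a => by
    rw [RingHom.algebraMap_toAlgebra]
    exact (IsScalarTower.algebraMap_apply A A' L a).trans (Ideal.ResidueField.map_algebraMap q x'.asIdeal (algebraMap A A') rfl a).symm
  exact (finrank_homology_bc P A' L p).trans
    ((finrank_homology_bc P K L p).symm.trans (finrank_homology_field (CohIII.bcCx (algebraMap A K) P) p))

end Groth.Agent.FlatCxLib
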