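import Groth.Agent.Lib.FlatCx.Rank
import Groth.Agent.Lib.Fitting.Projective
import Groth.Agent.Lib.Fitting.Local
import Mathlib.LinearAlgebra.Dimension.OrzechProperty

/-!
# Locally constant fibre rank and freeness over reduced rings
-/

universe u

open CategoryTheory
open scoped TensorProduct

noncomputable section

namespace Groth.Agent.FlatCxLib

variable {R : Type u} [CommRing R] {M : Type u} [AddCommGroup M] [Module R M]

theorem coeff_mem_of_le_finrank {q : Ideal R} [q.IsPrime] {u : R} (hu : u ∉ q) {k : ℕ} (g : Fin k → M)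
    (hg : ∀ y : M, u • y ∈ Submodule.span R (Set.range g))
    (hk : k ≤ Module.finrank q.ResidueField (q.ResidueField ⊗[R] M)) {c : Fin k → R}
    (hc : ∑ i, c i • g i = 0) (i : Fin k) : c i ∈ q := by
  let K := q.ResidueField
  let v : Fin k → K ⊗[R] M := fun i => (1 : K) ⊗ₜ[R] g i
  have hu0 : algebraMap R K u ≠ 0 := fun h => hu (Ideal.algebraMap_residueField_eq_zero.1 h)
  have hspan : (⊤ : Submodule K (K ⊗[R] M)) ≤ Submodule.span K (Set.range v) := by
    rintro x -
    induction x using TensorProduct.induction_on with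
    | zero => exact zero_mem _
    | add a b ha hb => exact add_mem ha hb
    | tmul a y =>
      obtain ⟨d, hd⟩ := (Submodule.mem_span_range_iff_exists_fun R).1 (hg y)
      have e : algebraMap R K u • (a ⊗ₜ[R] y) = a • ∑ j, algebraMap R K (d j) • v j := by
        simp only [algebraMap_smul, v, ← TensorProduct.tmul_smul, ← TensorProduct.tmul_sum, hd]
        rw [TensorProduct.smul_tmul', smul_eq_mul, mul_one, TensorProduct.tmul_smul]
      rw [show a ⊗ₜ[R] y = (algebraMap R K u)⁻¹ • algebraMap R K u • (a ⊗ₜ[R] y) by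
        rw [smul_smul, inv_mul_cancel₀ hu0, one_smul], e]
      exact Submodule.smul_mem _ _ (Submodule.smul_mem _ _
        (sum_mem fun j _ => Submodule.smul_mem _ _ (Submodule.subset_span ⟨j, rfl⟩)))
  have hli : LinearIndependent K v :=
    linearIndependent_of_top_le_span_of_card_le_finrank hspan (by rwa [Fintype.card_fin])
  have h0 : ∑ j, algebraMap R K (c j) • v j = 0 := by
    simp only [algebraMap_smul, v, ← TensorProduct.tmul_smul, ← TensorProduct.tmul_sum, hc, TensorProduct.tmul_zero]
  exact Ideal.algebraMap_residueField_eq_zero.1 (Fintype.linearIndependent_iff.1 hli _ h0 i)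

/-- The fibre rank. -/
def fibRank (M : Type u) [AddCommGroup M] [Module R M] (x : PrimeSpectrum R) : ℕ :=
  Module.finrank x.asIdeal.ResidueField (x.asIdeal.ResidueField ⊗[R] M)

theorem projective_of_fibRank_eventually [IsReduced R] [Module.Finite R M]
    (h : ∀ (m : Ideal R) [m.IsMaximal], ∀ᶠ y in nhds (⟨m, inferInstance⟩ : PrimeSpectrum R),
      fibRank M y = fibRank M (⟨m, inferInstance⟩ : PrimeSpectrum R)) :
    Module.Projective R M := by
  refine (Groth.Agent.FittingLib.projective_of_forall_exists fun m hm => ?_).1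
  let x : PrimeSpectrum R := ⟨m, hm.isPrime⟩
  obtain ⟨u, g, hu, hg⟩ := Groth.Agent.FittingLib.exists_minor_notMem (fibRank M x) m
    ((Groth.Agent.FittingLib.not_le_iff_finrank_fiber_le _ m).2 le_rfl)
  obtain ⟨U, hU, hUo, hxU⟩ := mem_nhds_iff.1 (h m)
  obtain ⟨_, ⟨f, rfl⟩, hxf, hfU⟩ :=
    PrimeSpectrum.isTopologicalBasis_basic_opens.exists_subset_of_mem_open hxU hUo
  refine ⟨u * f, fibRank M x, g, 1, fun h => (hm.isPrime.mem_or_mem h).elim hu hxf, fun y => ?_, fun c hc i => ?_⟩
  · rw [mul_comm, mul_smul]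
    exact Submodule.smul_mem _ _ (hg y)
  · rw [pow_one]
    refine IsReduced.eq_zero _ (nilpotent_iff_mem_prime.2 fun q hq => ?_)
    by_cases huf : u * f ∈ q
    · exact q.mul_mem_right _ huf
    · refine q.mul_mem_left _ (coeff_mem_of_le_finrank (fun h => huf (q.mul_mem_right _ h)) g hg ?_ hc i)
      exact (hU (hfU (show (⟨q, hq⟩ : PrimeSpectrum R) ∈ PrimeSpectrum.basicOpen f from
        fun h => huf (q.mul_mem_left _ h)))).ge

theorem free_of_fibRank_minimalPrimes [IsLocalRing R] [IsReduced R] [Module.Finite R M]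
    (h : ∀ y : PrimeSpectrum R, y.asIdeal ∈ minimalPrimes R →
      fibRank M (IsLocalRing.closedPoint R) ≤ fibRank M y) : Module.Free R M := by
  obtain ⟨u, g, hu, hg⟩ := Groth.Agent.FittingLib.exists_minor_notMem
    (fibRank M (IsLocalRing.closedPoint R)) (IsLocalRing.maximalIdeal R)
    ((Groth.Agent.FittingLib.not_le_iff_finrank_fiber_le _ _).2 le_rfl)
  have huu : IsUnit u := IsLocalRing.notMem_maximalIdeal.1 hu
  have hli : LinearIndependent R g := Fintype.linearIndependent_iff.2 fun c hc i => by
    refine IsReduced.eq_zero _ (nilpotent_iff_mem_prime.2 fun q hq => ?_)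
    obtain ⟨q', hq', hle⟩ := Ideal.exists_minimalPrimes_le (bot_le : ⊥ ≤ q)
    have : q'.IsPrime := hq'.1.1
    exact hle (coeff_mem_of_le_finrank (fun h => this.ne_top (Ideal.eq_top_of_isUnit_mem _ h huu)) g hg
      (h ⟨q', this⟩ hq') hc i)
  refine Module.Free.of_basis (Module.Basis.mk hli fun y _ => ?_)
  obtain ⟨v, rfl⟩ := huu
  have := Submodule.smul_mem (Submodule.span R (Set.range g)) (↑v⁻¹ : R) (hg y)
  rwa [smul_smul, Units.inv_mul, one_smul] at this

theorem fibRank_eq_rankAtStalk [Module.Finite R M] [Module.Flat R M] (x : PrimeSpectrum R) :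
    fibRank M x = Module.rankAtStalk M x :=
  (Module.rankAtStalk_eq (M := M) x).symm

section Complex

variable (P : ChainComplex (ModuleCat.{u} R) ℤ) [∀ i, Module.Finite R (P.X i)] [hP : ∀ i, Module.Flat R (P.X i)]
  [IsNoetherianRing R]

omit [∀ i, Module.Finite R (P.X i)] [IsNoetherianRing R] in
theorem exact_iff_flat_cok {p q : ℤ} (hpq : q + 1 = p) :
    ((CohIII.TFun P p).PreservesMonomorphisms ∧ (CohIII.TFun P p).PreservesEpimorphisms) ↔
      Module.Flat R (Cok P p) ∧ Module.Flat R (Cok P q) := by
  rw [preservesMono_iff P, preservesEpi_iff P hpq]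

theorem isLocallyConstant_dRank_of_exact (p : ℤ)
    (h : (CohIII.TFun P p).PreservesMonomorphisms ∧ (CohIII.TFun P p).PreservesEpimorphisms) :
    IsLocallyConstant (CohIII.dRank P p) := by
  obtain ⟨hp, hq⟩ := (exact_iff_flat_cok P (sub_add_cancel p 1)).1 h
  have := Module.finitePresentation_of_finite R (Cok P p)
  have := Module.finitePresentation_of_finite R (Cok P (p - 1))
  refine (IsLocallyConstant.iff_eventually_eq _).2 fun x => (eventually_dRank_eq_iff P x (sub_add_cancel p 1)).2 ?_
  constructor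
  · filter_upwards [(Module.isLocallyConstant_rankAtStalk (R := R) (M := Cok P p)).eventually_eq x] with y hy
    exact (fibRank_eq_rankAtStalk y).trans (hy.trans (fibRank_eq_rankAtStalk x).symm)
  · filter_upwards [(Module.isLocallyConstant_rankAtStalk (R := R) (M := Cok P (p - 1))).eventually_eq x] with y hy
    exact (fibRank_eq_rankAtStalk y).trans (hy.trans (fibRank_eq_rankAtStalk x).symm)

theorem exact_of_isLocallyConstant_dRank [IsReduced R] (p : ℤ) (h : IsLocallyConstant (CohIII.dRank P p)) :
    (CohIII.TFun P p).PreservesMonomorphisms ∧ (CohIII.TFun P p).PreservesEpimorphisms := by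
  have e := fun x => (eventually_dRank_eq_iff P x (sub_add_cancel p 1)).1 (h.eventually_eq x)
  have := projective_of_fibRank_eventually (M := Cok P p) fun m _ => (e ⟨m, inferInstance⟩).1
  have := projective_of_fibRank_eventually (M := Cok P (p - 1)) fun m _ => (e ⟨m, inferInstance⟩).2
  exact (exact_iff_flat_cok P (sub_add_cancel p 1)).2 ⟨inferInstance, inferInstance⟩

theorem isConstructible_of_upperSemicontinuous {f : PrimeSpectrum R → ℕ} (hf : UpperSemicontinuous f) :
    (Set.range f).Finite ∧ ∀ n, Topology.IsConstructible {x | f x = n} := by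
  have ho : ∀ n, IsOpen {x | f x < n} := fun n =>
    upperSemicontinuous_iff_isOpen_preimage.1 hf n
  constructor
  · obtain ⟨t, ht⟩ := isCompact_univ.elim_finite_subcover (fun n => {x | f x < n}) ho
      (fun x _ => Set.mem_iUnion.2 ⟨f x + 1, Nat.lt_succ_self _⟩)
    refine (Set.finite_Iio (t.sup id + 1)).subset ?_
    rintro _ ⟨x, rfl⟩
    obtain ⟨n, hn, hlt⟩ := Set.mem_iUnion₂.1 (ht (Set.mem_univ x))
    exact lt_of_lt_of_le (b := n) hlt ((Finset.le_sup (f := id) hn).trans (Nat.le_succ _))
  · intro n
    have hc : ∀ U : Set (PrimeSpectrum R), IsOpen U → Topology.IsConstructible U := fun U hU =>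
      IsRetrocompact.isConstructible hU fun V hVc _ => TopologicalSpace.NoetherianSpace.isCompact _
    have e : {x | f x = n} = {x | f x < n + 1} \ {x | f x < n} := by
      ext x; simp only [Set.mem_ofPred_eq, Set.mem_sdiff]; omega
    rw [e]
    exact (hc _ (ho _)).sdiff (hc _ (ho _))

end Complex

end Groth.Agent.FlatCxLib
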