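import Groth.Agent.Lib.FlatCx.FlatCoeff
import Groth.Agent.Lib.FlatCx.RankExact
import Groth.Agent.Lib.FlatCx.FiberTrans
import Mathlib.RingTheory.Localization.Finiteness
import Mathlib.Data.Int.SuccPred

/-!
# Flat complexes bounded below
-/

universe u

open CategoryTheory CategoryTheory.Limits Groth.Agent.DMod
open scoped TensorProduct

noncomputable section

namespace Groth.Agent.FlatCxLib

variable {A : Type u} [CommRing A] (P : ChainComplex (ModuleCat.{u} A) ℤ)

theorem subsingleton_cok {i₀ : ℤ} (hb : ∀ i < i₀, IsZero (P.X i)) {i : ℤ} (hi : i < i₀) :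
    Subsingleton (Cok P i) :=
  haveI := ModuleCat.subsingleton_of_isZero (hb i hi)
  inferInstance

theorem subsingleton_T {i₀ : ℤ} (hb : ∀ i < i₀, IsZero (P.X i)) {i : ℤ} (hi : i < i₀) (M : ModuleCat.{u} A) :
    Subsingleton (CohIII.T P i M) := by
  have := ModuleCat.subsingleton_of_isZero (hb i hi)
  have h1 : Subsingleton ((CohIII.tensorObj P M).X i) := inferInstanceAs (Subsingleton (P.X i ⊗[A] M))
  exact (subsingleton_homology_iff _ rfl rfl).2 fun y _ => ⟨0, (map_zero _).trans (h1.elim 0 y)⟩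

section Flat

variable [hP : ∀ i, Module.Flat A (P.X i)]

theorem flat_cok_of_flat_H {i₀ : ℤ} (hb : ∀ i < i₀, IsZero (P.X i)) (p : ℤ)
    (h : ∀ q ≤ p, Module.Flat A (H P q)) : ∀ q ≤ p, Module.Flat A (Cok P q) := by
  suffices ∀ n : ℕ, i₀ - 1 + n ≤ p → Module.Flat A (Cok P (i₀ - 1 + n)) by
    intro q hq
    rcases lt_or_ge q i₀ with hlt | hge
    · have := subsingleton_cok P hb hlt
      infer_instance
    · obtain ⟨n, hn⟩ : ∃ n : ℕ, q = i₀ - 1 + n := ⟨(q - i₀ + 1).toNat, by omega⟩
      exact hn ▸ this n (hn ▸ hq)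
  intro n
  induction n with
  | zero =>
    intro _
    have := subsingleton_cok P hb (i := i₀ - 1 + (0 : ℕ)) (by omega)
    infer_instance
  | succ n ih =>
    intro hn
    have he : (CohIII.TFun P (i₀ - 1 + (n + 1 : ℕ))).PreservesEpimorphisms :=
      (preservesEpi_iff P (show i₀ - 1 + (n : ℤ) + 1 = i₀ - 1 + (n + 1 : ℕ) by omega)).2 (ih (by omega))
    exact (preservesMono_iff P _).1 ((exact_iff_epi_and_flat P _).2 ⟨he, h _ hn⟩).1

theorem exact_of_flat_H {i₀ : ℤ} (hb : ∀ i < i₀, IsZero (P.X i)) (p : ℤ)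
    (h : ∀ q ≤ p, Module.Flat A (H P q)) {q : ℤ} (hq : q ≤ p) :
    (CohIII.TFun P q).PreservesMonomorphisms ∧ (CohIII.TFun P q).PreservesEpimorphisms :=
  ⟨(preservesMono_iff P q).2 (flat_cok_of_flat_H P hb p h q hq),
    (preservesEpi_iff P (sub_add_cancel q 1)).2 (flat_cok_of_flat_H P hb p h (q - 1) (by omega))⟩

/-- The connecting step: `T_p` of a quotient of a module is finite. -/
theorem finite_T_of_surjective [IsNoetherianRing A] {p q : ℤ} (hpq : q + 1 = p) {F M : Type u}
    [AddCommGroup F] [Module A F] [AddCommGroup M] [Module A M] {g : F →ₗ[A] M} (hg : Function.Surjective g)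
    (hTF : Module.Finite A (CohIII.T P p (ModuleCat.of A F)))
    (hK : Module.Finite A (CohIII.T P q (ModuleCat.of A (LinearMap.ker g)))) :
    Module.Finite A (CohIII.T P p (ModuleCat.of A M)) := by
  let K := LinearMap.ker g
  have := hK
  let d := dl P p q
  let S : Submodule A (P.X p ⊗[A] (F)) :=
    (LinearMap.range (K.subtype.lTensor (P.X q))).comap (d.rTensor (F))
  have hinj : Function.Injective (K.subtype.lTensor (P.X q)) :=
    Module.Flat.lTensor_preserves_injective_linearMap _ K.injective_subtype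
  let κ : S →ₗ[A] P.X q ⊗[A] K := (LinearEquiv.ofInjective _ hinj).symm.toLinearMap ∘ₗ
    (d.rTensor (F)).restrict (fun x hx => hx)
  have hκ : ∀ w : S, K.subtype.lTensor (P.X q) (κ w) = d.rTensor (F) w.1 := fun w =>
    congrArg Subtype.val ((LinearEquiv.ofInjective _ hinj).apply_symm_apply _)
  let r : ℤ := q - 1
  let δ : S →ₗ[A] CohIII.T P q (ModuleCat.of A K) :=
    cls (CohIII.tensorObj P (ModuleCat.of A K)) (sub_add_cancel q 1) ∘ₗ κ.codRestrict _ fun w => by
      change (dl P q r).rTensor K (κ w) = 0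
      apply Module.Flat.lTensor_preserves_injective_linearMap (M := P.X r) K.subtype K.injective_subtype
      rw [map_zero, ← lTensor_dl, hκ, dl_dl_tensor]
  let σ : S →ₗ[A] CohIII.T P p (ModuleCat.of A M) :=
    cls (CohIII.tensorObj P (ModuleCat.of A M)) hpq ∘ₗ ((g.lTensor (P.X p)).comp S.subtype).codRestrict _
      fun w => by
        change d.rTensor M (g.lTensor (P.X p) w.1) = 0
        rw [lTensor_dl, ← hκ, ← LinearMap.lTensor_comp_apply,
          show g ∘ₗ K.subtype = 0 from LinearMap.ext fun k => k.2, LinearMap.lTensor_zero, LinearMap.zero_apply]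
  have hσ : Function.Surjective σ := by
    intro η
    obtain ⟨⟨y, hy⟩, rfl⟩ := cls_surjective _ hpq η
    obtain ⟨w, rfl⟩ := LinearMap.lTensor_surjective (P.X p) hg y
    refine ⟨⟨w, ((lTensor_exact (P.X q) (LinearMap.exact_subtype_ker_map g) hg) _).1 ?_⟩, rfl⟩
    rw [← lTensor_dl]
    exact hy
  let R₀ := LinearMap.range (Tmap P p g)
  have hker : ∀ w : S, δ w = 0 → σ w ∈ R₀ := by
    intro w hw
    obtain ⟨y, hy⟩ := (cls_eq_zero_iff _ _ _).1 hw
    obtain ⟨y, rfl⟩ : ∃ z : P.X (q + 1) ⊗[A] K, z = y := ⟨y, rfl⟩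
    change (dl P (q + 1) q).rTensor K y = κ w at hy
    revert y hy
    rw [hpq]
    intro y hy
    let w' := w.1 - K.subtype.lTensor (P.X p) y
    have hw' : w' ∈ LinearMap.ker (dl (CohIII.tensorObj P (ModuleCat.of A (F))) p q) := by
      change d.rTensor (F) (w.1 - K.subtype.lTensor (P.X p) y) = 0
      rw [map_sub, lTensor_dl, ← hκ, hy, sub_self]
    have e : g.lTensor (P.X p) w' = g.lTensor (P.X p) w.1 := by
      change g.lTensor (P.X p) (w.1 - K.subtype.lTensor (P.X p) y) = _
      rw [map_sub, ← LinearMap.lTensor_comp_apply,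
        show g ∘ₗ K.subtype = 0 from LinearMap.ext fun k => k.2, LinearMap.lTensor_zero, LinearMap.zero_apply,
        sub_zero]
    have hmem : g.lTensor (P.X p) w' ∈ LinearMap.ker (dl (CohIII.tensorObj P (ModuleCat.of A M)) p q) := by
      change d.rTensor M (g.lTensor (P.X p) w') = 0
      rw [lTensor_dl]
      exact (congrArg _ hw').trans (map_zero _)
    exact ⟨cls _ hpq ⟨w', hw'⟩, (Tmap_cls P g hpq ⟨w', hw'⟩ hmem).trans (congrArg _ (Subtype.ext e))⟩
  let ψ : LinearMap.range δ →ₗ[A] CohIII.T P p (ModuleCat.of A M) ⧸ R₀ :=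
    (LinearMap.ker δ).liftQ (R₀.mkQ ∘ₗ σ) (fun w hw => LinearMap.mem_ker.2
      ((Submodule.Quotient.mk_eq_zero _).2 (hker w hw))) ∘ₗ δ.quotKerEquivRange.symm.toLinearMap
  have hψ : Function.Surjective ψ := by
    intro z
    obtain ⟨t, rfl⟩ := Submodule.mkQ_surjective _ z
    obtain ⟨w, rfl⟩ := hσ t
    refine ⟨δ.quotKerEquivRange (Submodule.Quotient.mk w), ?_⟩
    simp [ψ]
  have := Module.Finite.of_surjective ψ hψ
  have : Module.Finite A R₀ := Module.Finite.range _
  exact Module.Finite.of_submodule_quotient R₀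


/-- Homology with finite coefficients of a bounded below complex with finite homology is finite. -/
theorem finite_T [IsNoetherianRing A] {i₀ : ℤ} (hb : ∀ i < i₀, IsZero (P.X i))
    (hfg : ∀ n : ℤ, Module.Finite A (H P n)) (n : ℕ) :
    ∀ (M : Type u) [AddCommGroup M] [Module A M] [Module.Finite A M],
      Module.Finite A (CohIII.T P (i₀ - 1 + n) (ModuleCat.of A M)) := by
  induction n with
  | zero =>
    intro M _ _ _
    have := subsingleton_T P hb (i := i₀ - 1 + (0 : ℕ)) (by omega) (ModuleCat.of A M)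
    infer_instance
  | succ n ih =>
    intro M _ _ _
    obtain ⟨m, g, hg⟩ := Module.Finite.exists_fin' A M
    exact finite_T_of_surjective P (p := i₀ - 1 + (n + 1 : ℕ)) (q := i₀ - 1 + (n : ℕ)) (by omega) hg
      (Module.Finite.of_surjective (theta P _ (Fin m → A)) (theta_bijective_of_flat P (Fin m → A)).2)
      (ih (LinearMap.ker g))

end Flat

end Groth.Agent.FlatCxLib
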