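import Groth.Agent.Lib.FlatCx.Fiber

/-!
# Flat coefficients: `T_p(M) = T_p(A) ⊗ M` with no hypothesis on the complex
-/

universe u

open CategoryTheory
open scoped TensorProduct

noncomputable section

namespace Groth.Agent.FlatCxLib

variable {A : Type u} [CommRing A] (P : ChainComplex (ModuleCat.{u} A) ℤ) {p q : ℤ} (h : q + 1 = p)

theorem tmul_mem_ker {M : Type u} [AddCommGroup M] [Module A M] (x : LinearMap.ker (dl P p q)) (m : M) :
    x.1 ⊗ₜ[A] m ∈ LinearMap.ker (dl (CohIII.tensorObj P (ModuleCat.of A M)) p q) := by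
  change (dl P p q).rTensor M (x.1 ⊗ₜ[A] m) = 0
  rw [LinearMap.rTensor_tmul, LinearMap.mem_ker.1 x.2, TensorProduct.zero_tmul]

/-- The class of a cycle in `T_p(A)`. -/
def cls₁ : LinearMap.ker (dl P p q) →ₗ[A] H P p :=
  cls (CohIII.tensorObj P (ModuleCat.of A A)) h ∘ₗ
    ((TensorProduct.rid A (P.X p)).symm.toLinearMap ∘ₗ (LinearMap.ker (dl P p q)).subtype).codRestrict _
      fun x => tmul_mem_ker P x (1 : A)

theorem cls₁_surjective : Function.Surjective (cls₁ P h) := by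
  intro η
  obtain ⟨⟨y, hy⟩, rfl⟩ := cls_surjective _ h η
  refine ⟨⟨TensorProduct.rid A (P.X p) y, ?_⟩, congrArg (cls (CohIII.tensorObj P (ModuleCat.of A A)) h)
    (Subtype.ext ((TensorProduct.rid A (P.X p)).symm_apply_apply y))⟩
  obtain ⟨z, rfl⟩ := (TensorProduct.rid A (P.X p)).symm.surjective y
  have := congrArg (TensorProduct.rid A (P.X q)) hy
  change TensorProduct.rid A (P.X q) ((dl P p q).rTensor A (z ⊗ₜ[A] (1 : A))) = _ at this
  rw [LinearMap.rTensor_tmul, TensorProduct.rid_tmul, one_smul] at this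
  rw [LinearMap.mem_ker, LinearEquiv.apply_symm_apply]
  exact this.trans (map_zero (TensorProduct.rid A (P.X q)))

theorem cls₁_eq_zero {x : LinearMap.ker (dl P p q)} (y : P.X (p + 1)) (hy : dl P (p + 1) p y = x.1) :
    cls₁ P h x = 0 :=
  (cls_eq_zero_iff _ h _).2 ⟨y ⊗ₜ[A] (1 : A), congrArg (· ⊗ₜ[A] (1 : A)) hy⟩

theorem exists_of_cls₁_eq_zero {x : LinearMap.ker (dl P p q)} (hx : cls₁ P h x = 0) :
    ∃ y, dl P (p + 1) p y = x.1 := by
  obtain ⟨y, hy⟩ := (cls_eq_zero_iff _ h _).1 hx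
  refine ⟨TensorProduct.rid A (P.X (p + 1)) y, ?_⟩
  obtain ⟨z, rfl⟩ := (TensorProduct.rid A (P.X (p + 1))).symm.surjective y
  rw [LinearEquiv.apply_symm_apply]
  exact (TensorProduct.rid A (P.X p)).symm.injective hy

theorem theta_cls₁ {M : Type u} [AddCommGroup M] [Module A M] (x : LinearMap.ker (dl P p q)) (m : M) :
    theta P p M (cls₁ P h x ⊗ₜ[A] m) =
      cls (CohIII.tensorObj P (ModuleCat.of A M)) h ⟨x.1 ⊗ₜ[A] m, tmul_mem_ker P x m⟩ := by
  have e : (LinearMap.toSpanSingleton A M m).lTensor (P.X p) (x.1 ⊗ₜ[A] (1 : A)) = x.1 ⊗ₜ[A] m := by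
    rw [LinearMap.lTensor_tmul, LinearMap.toSpanSingleton_apply_one]
  refine (Tmap_cls P _ h ⟨x.1 ⊗ₜ[A] (1 : A), tmul_mem_ker P x (1 : A)⟩
    (e.symm ▸ tmul_mem_ker P x m)).trans ?_
  exact congrArg (cls (CohIII.tensorObj P (ModuleCat.of A M)) h) (Subtype.ext e)

theorem theta_bijective_of_flat (M : Type u) [AddCommGroup M] [Module A M] [Module.Flat A M] :
    Function.Bijective (theta P p M) := by
  obtain ⟨q, h⟩ : ∃ q, q + 1 = p := ⟨p - 1, by omega⟩
  let Z := LinearMap.ker (dl P p q)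
  let Φ : Z ⊗[A] M →ₗ[A] CohIII.T P p (ModuleCat.of A M) := theta P p M ∘ₗ (cls₁ P h).rTensor M
  have hΦ : ∀ z : Z ⊗[A] M, ∃ hz, Φ z =
      cls (CohIII.tensorObj P (ModuleCat.of A M)) h ⟨Z.subtype.rTensor M z, hz⟩ := by
    intro z
    induction z using TensorProduct.induction_on with
    | zero =>
      refine ⟨(map_zero (Z.subtype.rTensor M)).symm ▸ zero_mem _, ?_⟩
      rw [map_zero]
      exact ((congrArg _ (Subtype.ext (map_zero (Z.subtype.rTensor M)))).trans (map_zero _)).symm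
    | tmul x m => exact ⟨tmul_mem_ker P x m, theta_cls₁ P h x m⟩
    | add a b ha hb =>
      obtain ⟨ha', ea⟩ := ha
      obtain ⟨hb', eb⟩ := hb
      refine ⟨(map_add (Z.subtype.rTensor M) a b).symm ▸ add_mem ha' hb', ?_⟩
      rw [map_add, ea, eb, ← map_add]
      exact congrArg _ (Subtype.ext (map_add (Z.subtype.rTensor M) a b).symm)
  have hsub : Function.Injective (Z.subtype.rTensor M) :=
    Module.Flat.rTensor_preserves_injective_linearMap _ Z.injective_subtype
  have hker := Module.Flat.rTensor_exact M (LinearMap.exact_subtype_ker_map (dl P p q))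
  constructor
  · rw [injective_iff_map_eq_zero]
    intro w hw
    obtain ⟨z, rfl⟩ := LinearMap.rTensor_surjective M (cls₁_surjective P h) w
    obtain ⟨hz, e⟩ := hΦ z
    obtain ⟨y, hy⟩ := (cls_eq_zero_iff _ h _).1 (e.symm.trans hw)
    let d' : P.X (p + 1) →ₗ[A] Z := (dl P (p + 1) p).codRestrict _ fun t => dl_dl P _ p q t
    have : z = d'.rTensor M y := hsub <| by
      rw [← LinearMap.rTensor_comp_apply]
      exact hy.symm
    rw [this, ← LinearMap.rTensor_comp_apply,
      show cls₁ P h ∘ₗ d' = 0 from LinearMap.ext fun t => cls₁_eq_zero P h t rfl, LinearMap.rTensor_zero,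
      LinearMap.zero_apply]
  · intro η
    obtain ⟨⟨y, hy⟩, rfl⟩ := cls_surjective (CohIII.tensorObj P (ModuleCat.of A M)) h η
    obtain ⟨z, rfl⟩ := (hker y).1 hy
    obtain ⟨hz, e⟩ := hΦ z
    exact ⟨(cls₁ P h).rTensor M z, e⟩

/-- Homology commutes with flat base change. -/
def homologyFlatBaseChange (B : Type u) [CommRing B] [Algebra A B] [Module.Flat A B] (p : ℤ) :
    B ⊗[A] H P p ≃ₗ[B] (CohIII.bcCx (algebraMap A B) P).homology p :=
  homologyBaseChangeOfBijective P B (sub_add_cancel p 1) (theta_bijective_of_flat P B)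

end Groth.Agent.FlatCxLib
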