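import Groth.Agent.Lib.FlatCx.Basic
import Mathlib.RingTheory.Flat.Stability
import Mathlib.RingTheory.Flat.FaithfullyFlat.Basic

/-!
# Base change of flat complexes
-/

universe u

open CategoryTheory
open scoped TensorProduct

noncomputable section

namespace Groth.Agent.FlatCxLib

variable {A : Type u} [CommRing A] (B : Type u) [CommRing B] [Algebra A B]

/-- `B` with the restricted `A`-action is `B`. -/
def restrictEquiv : ↥((ModuleCat.restrictScalars (algebraMap A B)).obj (ModuleCat.of B B)) ≃ₗ[A] B where
  toFun x := x
  map_add' _ _ := rfl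
  map_smul' a x := (Algebra.smul_def a (show B from x)).symm
  invFun x := x

/-- Extension of scalars is `B ⊗ -`. -/
def extEquiv (X : ModuleCat.{u} A) :
    ↥((ModuleCat.extendScalars (algebraMap A B)).obj X) ≃ₗ[B] B ⊗[A] X :=
  { (TensorProduct.congr (restrictEquiv B) (LinearEquiv.refl A X)).toAddEquiv with
    map_smul' := fun b x => by
      change (TensorProduct.congr (restrictEquiv B) (LinearEquiv.refl A X)) (b • x) =
        b • (TensorProduct.congr (restrictEquiv B) (LinearEquiv.refl A X)) x
      induction x using TensorProduct.induction_on with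
      | zero =>
        refine (congrArg _ (smul_zero (A := ↥((ModuleCat.extendScalars (algebraMap A B)).obj X)) b)).trans ?_
        exact ((map_zero (TensorProduct.congr (restrictEquiv B) (LinearEquiv.refl A X))).trans
          ((congrArg (b • ·) (map_zero (TensorProduct.congr (restrictEquiv B) (LinearEquiv.refl A X)))).trans
            (smul_zero b)).symm)
      | tmul s m => exact (TensorProduct.smul_tmul' b (show B from s) m).symm
      | add x y hx hy =>
        refine (congrArg _ (smul_add (A := ↥((ModuleCat.extendScalars (algebraMap A B)).obj X)) b x y)).trans ?_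
        refine (map_add (TensorProduct.congr (restrictEquiv B) (LinearEquiv.refl A X)) _ _).trans ?_
        refine (congrArg₂ (· + ·) hx hy).trans ?_
        exact ((congrArg (b • ·) (map_add (TensorProduct.congr (restrictEquiv B) (LinearEquiv.refl A X)) x y)).trans
          (smul_add b _ _)).symm }

theorem extEquiv_map {X Y : ModuleCat.{u} A} (f : X ⟶ Y)
    (x : (ModuleCat.extendScalars (algebraMap A B)).obj X) :
    extEquiv B Y (((ModuleCat.extendScalars (algebraMap A B)).map f).hom x) =
      f.hom.baseChange B (extEquiv B X x) := by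
  induction x using TensorProduct.induction_on with
  | zero =>
    exact (congrArg _ (map_zero _)).trans ((map_zero _).trans
      ((congrArg _ (map_zero (extEquiv B X))).trans (map_zero _)).symm)
  | tmul s m => rfl
  | add x y hx hy =>
    refine Eq.trans ?_ ((congrArg (f.hom.baseChange B) (map_add (extEquiv B X) x y)).trans (map_add _ _ _)).symm
    refine (congrArg (extEquiv B Y) (map_add _ x y)).trans ((map_add _ _ _).trans ?_)
    exact congrArg₂ (· + ·) hx hy

variable (P : ChainComplex (ModuleCat.{u} A) ℤ)

/-- `Cok` commutes with base change. -/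
def cokBaseChange (p : ℤ) :
    Cok (CohIII.bcCx (algebraMap A B) P) p ≃ₗ[B] B ⊗[A] Cok P p := by
  let g : ↥((CohIII.bcCx (algebraMap A B) P).X p) →ₗ[B] B ⊗[A] Cok P p :=
    (LinearMap.range (dl P (p + 1) p)).mkQ.baseChange B ∘ₗ (extEquiv B (P.X p)).toLinearMap
  have hgy : ∀ y, g y = (LinearMap.range (dl P (p + 1) p)).mkQ.lTensor B (extEquiv B (P.X p) y) := fun y => by
    simp only [g, LinearMap.comp_apply, LinearMap.baseChange_eq_ltensor]
    rfl
  have hd : ∀ x, extEquiv B (P.X p) (dl (CohIII.bcCx (algebraMap A B) P) (p + 1) p x) =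
      (dl P (p + 1) p).lTensor B (extEquiv B (P.X (p + 1)) x) := fun x => by
    refine (extEquiv_map B (P.d (p + 1) p) x).trans ?_
    rw [LinearMap.baseChange_eq_ltensor]
  have hqex := lTensor_exact (R := A) B (LinearMap.exact_map_mkQ_range (dl P (p + 1) p))
    (Submodule.mkQ_surjective _)
  have hex : Function.Exact (dl (CohIII.bcCx (algebraMap A B) P) (p + 1) p) g := by
    intro y
    rw [hgy, hqex]
    constructor
    · rintro ⟨x, hx⟩
      refine ⟨(extEquiv B (P.X (p + 1))).symm x, (extEquiv B (P.X p)).injective ?_⟩
      rw [hd, LinearEquiv.apply_symm_apply, hx]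
    · rintro ⟨x, rfl⟩
      exact ⟨extEquiv B (P.X (p + 1)) x, (hd x).symm⟩
  have hg : Function.Surjective g := fun z => by
    obtain ⟨w, hw⟩ := LinearMap.lTensor_surjective B (Submodule.mkQ_surjective (LinearMap.range (dl P (p + 1) p))) z
    exact ⟨(extEquiv B (P.X p)).symm w, by rw [hgy, LinearEquiv.apply_symm_apply, hw]⟩
  exact (Submodule.quotEquivOfEq _ _ hex.linearMap_ker_eq.symm).trans (g.quotKerEquivOfSurjective hg)

theorem flat_cok_baseChange (p : ℤ) (h : Module.Flat A (Cok P p)) :
    Module.Flat B (Cok (CohIII.bcCx (algebraMap A B) P) p) :=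
  Module.Flat.of_linearEquiv (cokBaseChange B P p)

theorem flat_X_baseChange [∀ i, Module.Flat A (P.X i)] (i : ℤ) :
    Module.Flat B ((CohIII.bcCx (algebraMap A B) P).X i) :=
  Module.Flat.of_linearEquiv (extEquiv B (P.X i))

theorem flat_cok_of_faithfullyFlat [Module.FaithfullyFlat A B] (p : ℤ)
    (h : Module.Flat B (Cok (CohIII.bcCx (algebraMap A B) P) p)) : Module.Flat A (Cok P p) :=
  (Module.Flat.iff_flat_tensorProduct (R := A) (M := Cok P p) B).1
    (Module.Flat.of_linearEquiv (cokBaseChange B P p).symm)

end Groth.Agent.FlatCxLib
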