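import Groth.Agent.Lib.FlatCx.Local
import Groth.Agent.Lib.FlatCx.BaseChange
import Mathlib.RingTheory.Spectrum.Prime.FreeLocus
import Mathlib.RingTheory.Localization.FractionRing

/-!
# Openness of the exact locus
-/

universe u

open CategoryTheory
open scoped TensorProduct

noncomputable section

namespace Groth.Agent.FlatCxLib

variable {A : Type u} [CommRing A] [IsNoetherianRing A] (P : ChainComplex (ModuleCat.{u} A) ℤ)
  [∀ i, Module.Finite A (P.X i)]

omit [IsNoetherianRing A] in
theorem flat_cok_localization_iff (y : PrimeSpectrum A) (p : ℤ) :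
    Module.Flat (Localization.AtPrime y.asIdeal)
        (Cok (CohIII.bcCx (algebraMap A (Localization.AtPrime y.asIdeal)) P) p) ↔
      y ∈ Module.freeLocus A (Cok P p) := by
  let R := Localization.AtPrime y.asIdeal
  rw [Module.mem_freeLocus_iff_tensor y R, Module.Flat.equiv_iff (cokBaseChange R P p)]
  exact ⟨fun _ => Module.free_of_flat_of_isLocalRing, fun _ => inferInstance⟩

omit [IsNoetherianRing A] [∀ i, Module.Finite A (P.X i)] in
theorem bot_mem_freeLocus [IsDomain A] (M : Type u) [AddCommGroup M] [Module A M] :
    (⟨⊥, Ideal.isPrime_bot⟩ : PrimeSpectrum A) ∈ Module.freeLocus A M := by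
  have : IsLocalization.AtPrime (FractionRing A) (⊥ : Ideal A) := by
    show IsLocalization (⊥ : Ideal A).primeCompl (FractionRing A)
    rw [Ideal.primeCompl_bot]
    exact inferInstanceAs (IsLocalization (nonZeroDivisors A) (FractionRing A))
  rw [Module.mem_freeLocus_iff_tensor _ (FractionRing A)]
  exact Module.Free.of_divisionRing _ _

variable [hP : ∀ i, Module.Flat A (P.X i)]

omit [IsNoetherianRing A] in
theorem preservesEpi_localization_iff (y : PrimeSpectrum A) {p q : ℤ} (hpq : q + 1 = p) :
    (CohIII.TFun (CohIII.bcCx (algebraMap A (Localization.AtPrime y.asIdeal)) P) p).PreservesEpimorphisms ↔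
      y ∈ Module.freeLocus A (Cok P q) := by
  have := flat_X_baseChange (Localization.AtPrime y.asIdeal) P
  rw [preservesEpi_iff (CohIII.bcCx (algebraMap A (Localization.AtPrime y.asIdeal)) P) hpq,
    flat_cok_localization_iff P]

omit [IsNoetherianRing A] in
theorem preservesMono_localization_iff (y : PrimeSpectrum A) (p : ℤ) :
    (CohIII.TFun (CohIII.bcCx (algebraMap A (Localization.AtPrime y.asIdeal)) P) p).PreservesMonomorphisms ↔
      y ∈ Module.freeLocus A (Cok P p) := by
  have := flat_X_baseChange (Localization.AtPrime y.asIdeal) P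
  rw [preservesMono_iff (CohIII.bcCx (algebraMap A (Localization.AtPrime y.asIdeal)) P),
    flat_cok_localization_iff P]

omit hP in
theorem isOpen_freeLocus_cok (p : ℤ) : IsOpen (Module.freeLocus A (Cok P p)) :=
  haveI := Module.finitePresentation_of_finite A (Cok P p)
  Module.isOpen_freeLocus

end Groth.Agent.FlatCxLib
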