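import Groth.Agent.Lib.FlatCx.BaseChange
import Groth.Agent.Lib.Fitting.More
import Mathlib.RingTheory.Spectrum.Prime.FreeLocus
import Mathlib.LinearAlgebra.Dimension.RankNullity
import Mathlib.Topology.Semicontinuity.Basic

/-!
# The rank function of a flat complex

`dRank_p + rank P_q = μ(Cok p) + μ(Cok q)` for `q + 1 = p`.
-/

universe u

open CategoryTheory Groth.Agent.DMod
open scoped TensorProduct

noncomputable section

namespace Groth.Agent.FlatCxLib

section Field

variable {K : Type u} [Field K] (Q : ChainComplex (ModuleCat.{u} K) ℤ) [∀ i, Module.Finite K (Q.X i)]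

theorem finrank_homology_add {p q : ℤ} (hpq : q + 1 = p) :
    Module.finrank K (Q.homology p) + Module.finrank K (Q.X q) =
      Module.finrank K (Cok Q p) + Module.finrank K (Cok Q q) := by
  subst hpq
  let d := dl Q (q + 1) q
  let d' := dl Q (q + 1 + 1) (q + 1)
  let i := (Q.iCycles (q + 1)).hom
  let π := (Q.homologyπ (q + 1)).hom
  have hi : LinearMap.range i = LinearMap.ker d := by
    ext x
    exact ⟨fun ⟨z, hz⟩ => hz ▸ d_iCycles (q + 1) q z, fun hx => exists_cycle (next_eq rfl) x hx⟩
  have hker : (LinearMap.ker π).map i = LinearMap.range d' := by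
    ext x
    constructor
    · rintro ⟨z, hz, rfl⟩
      exact (homologyπ_eq_zero_iff (prev_eq (q + 1)) z).1 hz
    · rintro ⟨y, rfl⟩
      obtain ⟨z, hz⟩ := exists_cycle (next_eq rfl) (d' y) (dl_dl Q _ (q + 1) q y)
      exact ⟨z, (homologyπ_eq_zero_iff (prev_eq (q + 1)) z).2 ⟨y, hz.symm⟩, hz⟩
  have : Module.Finite K (Q.cycles (q + 1)) :=
    Module.Finite.of_injective i (iCycles_injective _ _)
  have e1 := (LinearMap.ker π).finrank_quotient_add_finrank
  rw [(π.quotKerEquivOfSurjective (homologyπ_surjective _ _)).finrank_eq,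
    ((LinearMap.ker π).equivMapOfInjective i (iCycles_injective _ _)).finrank_eq, hker,
    (LinearEquiv.ofInjective i (iCycles_injective _ _)).finrank_eq, hi] at e1
  have e2 := LinearMap.finrank_range_add_finrank_ker d
  have e3 := (LinearMap.range d).finrank_quotient_add_finrank
  have e4 := (LinearMap.range d').finrank_quotient_add_finrank
  change Module.finrank K (Q.homology (q + 1)) + _ =
    Module.finrank K (Q.X (q + 1) ⧸ LinearMap.range d') + Module.finrank K (Q.X q ⧸ LinearMap.range d)
  omega

end Field

variable {A : Type u} [CommRing A] (P : ChainComplex (ModuleCat.{u} A) ℤ)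

/-- The fibre dimension of `Cok p`. -/
def cokRank (p : ℤ) (x : PrimeSpectrum A) : ℕ :=
  Module.finrank x.asIdeal.ResidueField (x.asIdeal.ResidueField ⊗[A] Cok P p)

variable [∀ i, Module.Finite A (P.X i)]

theorem upperSemicontinuous_cokRank (p : ℤ) : UpperSemicontinuous (cokRank P p) := by
  intro x n hn
  obtain ⟨k, rfl⟩ : ∃ k, n = k + 1 := ⟨n - 1, by omega⟩
  refine Filter.eventually_of_mem
    ((PrimeSpectrum.isClosed_zeroLocus (Fitt.ideal A (Cok P p) k : Set A)).isOpen_compl.mem_nhds ?_) ?_
  · exact (Groth.Agent.FittingLib.not_le_iff_finrank_fiber_le k x.asIdeal).2 (Nat.lt_succ_iff.1 hn)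
  · exact fun y hy =>
      Nat.lt_succ_of_le ((Groth.Agent.FittingLib.not_le_iff_finrank_fiber_le k y.asIdeal).1 hy)

variable [hP : ∀ i, Module.Flat A (P.X i)]

theorem dRank_add (x : PrimeSpectrum A) {p q : ℤ} (hpq : q + 1 = p) :
    CohIII.dRank P p x + Module.rankAtStalk (P.X q) x = cokRank P p x + cokRank P q x := by
  let K := x.asIdeal.ResidueField
  have : ∀ i, Module.Finite K ((CohIII.bcCx (algebraMap A K) P).X i) := fun i =>
    Module.Finite.equiv (extEquiv K (P.X i)).symm
  have h := finrank_homology_add (CohIII.bcCx (algebraMap A K) P) hpq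
  rw [(cokBaseChange K P p).finrank_eq, (cokBaseChange K P q).finrank_eq] at h
  rw [Module.rankAtStalk_eq, ← (extEquiv K (P.X q)).finrank_eq]
  exact h

variable [IsNoetherianRing A]

theorem isLocallyConstant_rankX (q : ℤ) :
    IsLocallyConstant fun x : PrimeSpectrum A => Module.rankAtStalk (P.X q) x :=
  haveI := Module.finitePresentation_of_finite A (P.X q)
  Module.isLocallyConstant_rankAtStalk

theorem upperSemicontinuous_dRank (p : ℤ) : UpperSemicontinuous (CohIII.dRank P p) := by
  intro x n hn
  have hx := dRank_add P x (sub_add_cancel p 1)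
  filter_upwards [upperSemicontinuous_cokRank P p x (cokRank P p x + 1) (Nat.lt_succ_self _),
    upperSemicontinuous_cokRank P (p - 1) x (cokRank P (p - 1) x + 1) (Nat.lt_succ_self _),
    (isLocallyConstant_rankX P (p - 1)).eventually_eq x] with y h1 h2 h3
  have hy := dRank_add P y (sub_add_cancel p 1)
  omega

/-- A neighbouring-rank criterion: `dRank p` near `x` is constant iff both `cokRank`s are. -/
theorem eventually_dRank_eq_iff (x : PrimeSpectrum A) {p q : ℤ} (hpq : q + 1 = p) :
    (∀ᶠ y in nhds x, CohIII.dRank P p y = CohIII.dRank P p x) ↔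
      (∀ᶠ y in nhds x, cokRank P p y = cokRank P p x) ∧ ∀ᶠ y in nhds x, cokRank P q y = cokRank P q x := by
  have hx := dRank_add P x hpq
  constructor
  · intro h
    constructor <;>
    · filter_upwards [h, upperSemicontinuous_cokRank P p x (cokRank P p x + 1) (Nat.lt_succ_self _),
        upperSemicontinuous_cokRank P q x (cokRank P q x + 1) (Nat.lt_succ_self _),
        (isLocallyConstant_rankX P q).eventually_eq x] with y h0 h1 h2 h3
      have hy := dRank_add P y hpq
      omega
  · rintro ⟨h1, h2⟩
    filter_upwards [h1, h2, (isLocallyConstant_rankX P q).eventually_eq x] with y h1 h2 h3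
    have hy := dRank_add P y hpq
    omega

end Groth.Agent.FlatCxLib
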