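import Groth.Agent.Lib.FlatCx.Fiber
import Mathlib.LinearAlgebra.Contraction
import Mathlib.LinearAlgebra.Dual.Lemmas
import Mathlib.CategoryTheory.Linear.Yoneda
import Mathlib.RingTheory.Finiteness.Projective

/-!
# Left exact homological functors are corepresentable
-/

universe u

open CategoryTheory Groth.Agent.DMod Opposite
open scoped TensorProduct

noncomputable section

namespace Groth.Agent.FlatCxLib

variable {A : Type u} [CommRing A]

/-- `X ⊗ M → Hom(X^*, M)`. -/
def evHom (X M : Type u) [AddCommGroup X] [Module A X] [AddCommGroup M] [Module A M] :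
    X ⊗[A] M →ₗ[A] (Module.Dual A X →ₗ[A] M) :=
  dualTensorHom A (Module.Dual A X) M ∘ₗ (Module.Dual.eval A X).rTensor M

theorem evHom_tmul {X M : Type u} [AddCommGroup X] [Module A X] [AddCommGroup M] [Module A M] (x : X) (m : M)
    (f : Module.Dual A X) : evHom X M (x ⊗ₜ[A] m) f = f x • m := by
  simp [evHom]

theorem evHom_bijective (X M : Type u) [AddCommGroup X] [Module A X] [AddCommGroup M] [Module A M]
    [Module.Finite A X] [Module.Projective A X] : Function.Bijective (evHom X M (A := A)) :=
  (dualTensorHomEquiv A (Module.Dual A X) M).bijective.comp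
    (((Module.evalEquiv A X).rTensor M).bijective)

theorem evHom_natural {X Y M : Type u} [AddCommGroup X] [Module A X] [AddCommGroup Y] [Module A Y]
    [AddCommGroup M] [Module A M] (d : X →ₗ[A] Y) (z : X ⊗[A] M) (f : Module.Dual A Y) :
    evHom Y M (d.rTensor M z) f = evHom X M z (f ∘ₗ d) := by
  induction z using TensorProduct.induction_on with
  | zero => simp
  | tmul x m => rw [LinearMap.rTensor_tmul, evHom_tmul, evHom_tmul]; rfl
  | add a b ha hb => simp only [map_add, LinearMap.add_apply, ha, hb]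

theorem evHom_lTensor {X M N : Type u} [AddCommGroup X] [Module A X] [AddCommGroup M] [Module A M]
    [AddCommGroup N] [Module A N] (g : M →ₗ[A] N) (z : X ⊗[A] M) :
    evHom X N (g.lTensor X z) = g ∘ₗ evHom X M z := by
  refine LinearMap.ext fun f => ?_
  induction z using TensorProduct.induction_on with
  | zero => simp
  | tmul x m => rw [LinearMap.lTensor_tmul, evHom_tmul, LinearMap.comp_apply, evHom_tmul, map_smul]
  | add a b ha hb => simp only [map_add, LinearMap.add_apply, LinearMap.comp_apply] at ha hb ⊢; rw [ha, hb]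

variable (P : ChainComplex (ModuleCat.{u} A) ℤ) {p q : ℤ} (h : q + 1 = p)

/-- The differential out of the cokernel. -/
def dbar (p q : ℤ) : Cok P p →ₗ[A] P.X q :=
  (LinearMap.range (dl P (p + 1) p)).liftQ (dl P p q) (by
    rintro _ ⟨y, rfl⟩
    exact dl_dl P (p + 1) p q y)

/-- The corepresenting module. -/
abbrev corep (p q : ℤ) : Type u :=
  Module.Dual A (Cok P p) ⧸ LinearMap.range (dbar P p q).dualMap

variable (M : Type u) [AddCommGroup M] [Module A M] [∀ i, Module.Finite A (P.X i)]
  [∀ i, Module.Projective A (P.X i)] [Module.Projective A (Cok P p)]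

omit [∀ i, Module.Finite A (P.X i)] [∀ i, Module.Projective A (P.X i)] [Module.Projective A (Cok P p)] in
theorem evHom_dbar (w : P.X p ⊗[A] M) :
    evHom (P.X q) M ((dl P p q).rTensor M w) =
      evHom (Cok P p) M (qM P p M w) ∘ₗ (dbar P p q).dualMap := by
  refine LinearMap.ext fun f => ?_
  rw [LinearMap.comp_apply, evHom_natural, evHom_natural]
  congr 1

/-- Cycles into homomorphisms. -/
def kerToHom : LinearMap.ker (dl (CohIII.tensorObj P (ModuleCat.of A M)) p q) →ₗ[A] (corep P p q →ₗ[A] M) where
  toFun w := (LinearMap.range (dbar P p q).dualMap).liftQ (evHom (Cok P p) M (qM P p M w.1)) (by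
    rintro _ ⟨f, rfl⟩
    rw [LinearMap.mem_ker, ← LinearMap.comp_apply, ← evHom_dbar]
    exact (congrArg (fun t => evHom (P.X q) M t f) w.2).trans (LinearMap.congr_fun (map_zero (evHom (P.X q) M)) f))
  map_add' a b := Submodule.linearMap_qext _ (LinearMap.ext fun f => by
    exact LinearMap.congr_fun (map_add (evHom (Cok P p) M ∘ₗ qM P p M) a.1 b.1) f)
  map_smul' c a := Submodule.linearMap_qext _ (LinearMap.ext fun f => by
    exact LinearMap.congr_fun (map_smul (evHom (Cok P p) M ∘ₗ qM P p M) c a.1) f)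

theorem kerToHom_surjective : Function.Surjective (kerToHom P M (p := p) (q := q)) := by
  intro g
  obtain ⟨z, hz⟩ := (evHom_bijective (Cok P p) M).2 (g ∘ₗ (LinearMap.range (dbar P p q).dualMap).mkQ)
  obtain ⟨w, rfl⟩ := qM_surjective P p z
  have hw : (dl P p q).rTensor M w = 0 := (evHom_bijective (P.X q) M).1 <| by
    rw [map_zero, evHom_dbar, hz]
    refine LinearMap.ext fun f => ?_
    rw [LinearMap.comp_apply, LinearMap.comp_apply, Submodule.mkQ_apply,
      (Submodule.Quotient.mk_eq_zero _).2 (LinearMap.mem_range_self (dbar P p q).dualMap f), map_zero,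
      LinearMap.zero_apply]
  exact ⟨⟨w, hw⟩, Submodule.linearMap_qext _ (LinearMap.ext fun f => LinearMap.congr_fun hz f)⟩

omit [∀ i, Module.Projective A (P.X i)] in
theorem kerToHom_eq_zero_iff (w : LinearMap.ker (dl (CohIII.tensorObj P (ModuleCat.of A M)) p q)) :
    kerToHom P M w = 0 ↔ cls (CohIII.tensorObj P (ModuleCat.of A M)) h w = 0 := by
  rw [cls_eq_zero_iff]
  constructor
  · intro hw
    have : qM P p M w.1 = 0 := (evHom_bijective (Cok P p) M).1 <| by
      rw [map_zero]
      exact LinearMap.ext fun f => LinearMap.congr_fun hw ((LinearMap.range (dbar P p q).dualMap).mkQ f)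
    exact (qM_exact P p _).1 this
  · rintro ⟨y, hy⟩
    refine Submodule.linearMap_qext _ (LinearMap.ext fun f => ?_)
    change evHom (Cok P p) M (qM P p M w.1) f = 0
    rw [← hy, show qM P p M (dl (CohIII.tensorObj P (ModuleCat.of A M)) (p + 1) p y) = 0 from
      (qM_exact P p).apply_apply_eq_zero y, map_zero, LinearMap.zero_apply]

/-- `T_p(M) = Hom(Q, M)`. -/
def corepEquiv : CohIII.T P p (ModuleCat.of A M) ≃ₗ[A] (corep P p q →ₗ[A] M) :=
  have e : LinearMap.ker (cls (CohIII.tensorObj P (ModuleCat.of A M)) h) = LinearMap.ker (kerToHom P M) := by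
    ext w; exact (kerToHom_eq_zero_iff P h M w).symm
  ((cls (CohIII.tensorObj P (ModuleCat.of A M)) h).quotKerEquivOfSurjective (cls_surjective _ h)).symm.trans
    ((Submodule.quotEquivOfEq _ _ e).trans
      ((kerToHom P M).quotKerEquivOfSurjective (kerToHom_surjective P M)))

theorem corepEquiv_cls (w : LinearMap.ker (dl (CohIII.tensorObj P (ModuleCat.of A M)) p q)) :
    corepEquiv P h M (cls (CohIII.tensorObj P (ModuleCat.of A M)) h w) = kerToHom P M w := by
  have e : ((cls (CohIII.tensorObj P (ModuleCat.of A M)) h).quotKerEquivOfSurjective (cls_surjective _ h)).symm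
      (cls (CohIII.tensorObj P (ModuleCat.of A M)) h w) = Submodule.Quotient.mk w :=
    (LinearEquiv.symm_apply_eq _).2 rfl
  simp only [corepEquiv, LinearEquiv.trans_apply, e]
  rfl

/-- The corepresentation of `T_p`. -/
def corepIso : CohIII.TFun P p ≅ (linearCoyoneda A (ModuleCat.{u} A)).obj (op (ModuleCat.of A (corep P p q))) :=
  NatIso.ofComponents
    (fun N => ((corepEquiv P h N).trans (ModuleCat.homLinearEquiv (S := A) (M := ModuleCat.of A (corep P p q))
      (N := N)).symm).toModuleIso)
    (fun {X Y} g => ModuleCat.hom_ext (LinearMap.ext fun η => by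
      obtain ⟨w, rfl⟩ := cls_surjective (CohIII.tensorObj P X) h η
      have hw : g.hom.lTensor (P.X p) w.1 ∈ LinearMap.ker (dl (CohIII.tensorObj P (ModuleCat.of A Y)) p q) :=
        (lTensor_dl P p q g.hom w.1).trans ((congrArg _ w.2).trans (map_zero _))
      refine ModuleCat.hom_ext ?_
      change corepEquiv P h Y (Tmap P p g.hom (cls (CohIII.tensorObj P (ModuleCat.of A X)) h w)) =
        g.hom ∘ₗ corepEquiv P h X (cls (CohIII.tensorObj P (ModuleCat.of A X)) h w)
      rw [Tmap_cls P g.hom h w hw, corepEquiv_cls, corepEquiv_cls]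
      refine Submodule.linearMap_qext _ (LinearMap.ext fun f => ?_)
      change evHom (Cok P p) Y (qM P p Y (g.hom.lTensor (P.X p) w.1)) f =
        g.hom (evHom (Cok P p) X (qM P p X w.1) f)
      rw [← lTensor_qM, evHom_lTensor]
      rfl))

omit [∀ i, Module.Finite A (P.X i)] [∀ i, Module.Projective A (P.X i)] [Module.Projective A (Cok P p)] in
/-- A module corepresenting `T_p` of a flat complex is finitely generated. -/
theorem finite_of_corep [∀ i, Module.Flat A (P.X i)] (Q : ModuleCat.{u} A)
    (e : CohIII.TFun P p ≅ (linearCoyoneda A (ModuleCat.{u} A)).obj (op Q)) : Module.Finite A Q := by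
  obtain ⟨w, hw⟩ := cls_surjective (CohIII.tensorObj P Q) (sub_add_cancel p 1)
    ((e.inv.app Q).hom (show ((linearCoyoneda A (ModuleCat.{u} A)).obj (op Q)).obj Q from 𝟙 Q))
  obtain ⟨M', N', _, hN, hmem⟩ := TensorProduct.exists_finite_submodule_of_setFinite (R := A) (M := P.X p) (N := Q)
    {w.1} (Set.finite_singleton _)
  obtain ⟨z, hz⟩ := hmem (Set.mem_singleton w.1)
  let i : ModuleCat.of A N' ⟶ Q := ModuleCat.ofHom N'.subtype
  let z' : P.X p ⊗[A] N' := M'.subtype.rTensor N' z
  have hz' : i.hom.lTensor (P.X p) z' = w.1 := by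
    rw [← hz]
    change N'.subtype.lTensor (P.X p) (M'.subtype.rTensor N' z) = TensorProduct.mapIncl M' N' z
    exact ((LinearMap.lTensor (P.X p) N'.subtype).comp_apply (M'.subtype.rTensor N') z).symm.trans
      (LinearMap.congr_fun (TensorProduct.ext' fun a b => rfl :
        (LinearMap.lTensor (P.X p) N'.subtype).comp (M'.subtype.rTensor N') = TensorProduct.mapIncl M' N') z)
  have hzk : (show (CohIII.tensorObj P (ModuleCat.of A N')).X p from z') ∈ LinearMap.ker (dl (CohIII.tensorObj P (ModuleCat.of A N')) p (p - 1)) := by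
    refine LinearMap.mem_ker.2 ((Module.Flat.lTensor_preserves_injective_linearMap (M := P.X (p - 1)) i.hom
      N'.injective_subtype) ?_)
    refine (lTensor_dl P p (p - 1) i.hom z').symm.trans ?_
    rw [hz']
    exact (LinearMap.mem_ker.1 w.2).trans (map_zero (i.hom.lTensor (P.X (p - 1)))).symm
  have key : Tmap P p i.hom (cls _ (sub_add_cancel p 1) ⟨z', hzk⟩) = cls (CohIII.tensorObj P Q) (sub_add_cancel p 1) w :=
    (Tmap_cls P i.hom (sub_add_cancel p 1) ⟨z', hzk⟩ (hz' ▸ w.2)).trans (congrArg _ (Subtype.ext hz'))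
  let φ : Q ⟶ ModuleCat.of A N' := (e.hom.app (ModuleCat.of A N')).hom (cls _ (sub_add_cancel p 1) ⟨z', hzk⟩)
  have hφ : φ ≫ i = 𝟙 Q := by
    have hnat := LinearMap.congr_fun (congrArg ModuleCat.Hom.hom (e.hom.naturality i))
      (cls (CohIII.tensorObj P (ModuleCat.of A N')) (sub_add_cancel p 1) ⟨z', hzk⟩)
    refine hnat.symm.trans ?_
    refine (congrArg (e.hom.app Q).hom (key.trans hw)).trans ?_
    exact LinearMap.congr_fun (congrArg ModuleCat.Hom.hom (e.inv_hom_id_app Q)) _
  exact Module.Finite.of_surjective i.hom fun x =>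
    ⟨φ.hom x, LinearMap.congr_fun (congrArg ModuleCat.Hom.hom hφ) x⟩

end Groth.Agent.FlatCxLib
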