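import Groth.Agent.Lib.FlatCx.Bounded
import Groth.Agent.Lib.FlatCx.Locus
import Mathlib.RingTheory.Ideal.MinimalPrime.Noetherian

/-!
# Generic exactness
-/

universe u

open CategoryTheory CategoryTheory.Limits Groth.Agent.DMod
open scoped TensorProduct

noncomputable section

namespace Groth.Agent.FlatCxLib

variable {A : Type u} [CommRing A] (P : ChainComplex (ModuleCat.{u} A) ℤ)

theorem isZero_bc {B : Type u} [CommRing B] [Algebra A B] {i : ℤ} (h : IsZero (P.X i)) :
    IsZero ((CohIII.bcCx (algebraMap A B) P).X i) :=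
  haveI := ModuleCat.subsingleton_of_isZero h
  haveI : Subsingleton ((CohIII.bcCx (algebraMap A B) P).X i) := (extEquiv B (P.X i)).toEquiv.subsingleton
  ModuleCat.isZero_of_subsingleton _

variable [hP : ∀ i, Module.Flat A (P.X i)]

theorem exists_away_exact [IsDomain A] {i₀ : ℤ} (hb : ∀ i < i₀, IsZero (P.X i))
    (hfp : ∀ n : ℤ, Module.FinitePresentation A (H P n)) (N : ℤ) :
    ∃ f : A, f ≠ 0 ∧ ∀ p ≤ N,
      (CohIII.TFun (CohIII.bcCx (algebraMap A (Localization.Away f)) P) p).PreservesMonomorphisms ∧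
        (CohIII.TFun (CohIII.bcCx (algebraMap A (Localization.Away f)) P) p).PreservesEpimorphisms := by
  let U : Set (PrimeSpectrum A) := ⋂ q ∈ Finset.Icc i₀ N, Module.freeLocus A (H P q)
  have hU : IsOpen U := isOpen_biInter_finset fun q _ => Module.isOpen_freeLocus
  have hx : (⟨⊥, Ideal.isPrime_bot⟩ : PrimeSpectrum A) ∈ U :=
    Set.mem_iInter₂.2 fun q _ => bot_mem_freeLocus (H P q)
  obtain ⟨_, ⟨f, rfl⟩, hxf, hfU⟩ :=
    PrimeSpectrum.isTopologicalBasis_basic_opens.exists_subset_of_mem_open hx hU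
  refine ⟨f, fun hf => hxf (hf ▸ Submodule.zero_mem (⊥ : Ideal A)), fun p hp => ?_⟩
  let B := Localization.Away f
  let Q := CohIII.bcCx (algebraMap A B) P
  have := flat_X_baseChange B P
  refine exact_of_flat_H Q (fun i hi => isZero_bc P (hb i hi)) N (fun q hq => ?_) hp
  rcases lt_or_ge q i₀ with hlt | hge
  · have := subsingleton_T Q (fun i hi => isZero_bc P (B := B) (hb i hi)) hlt (ModuleCat.of B B)
    exact Module.Flat.of_free
  · have hproj : Module.Projective B (LocalizedModule.Away f (H P q)) :=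
      Module.basicOpen_subset_freeLocus_iff.1
        (hfU.trans (Set.biInter_subset_of_mem (Finset.mem_Icc.2 ⟨hge, hq⟩)))
    have hfl : Module.Flat B (LocalizedModule.Away f (H P q)) := @Module.Flat.of_projective _ _ _ _ _ hproj
    have : Module.Flat B (B ⊗[A] H P q) :=
      @Module.Flat.of_linearEquiv _ _ _ _ _ _ _ _ hfl
        (LocalizedModule.equivTensorProduct (Submonoid.powers f) (H P q)).symm
    exact Module.Flat.of_linearEquiv ((unitEquiv Q q).trans (homologyFlatBaseChange P B q).symm)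

omit hP in
theorem finite_H_baseChange (B : Type u) [CommRing B] [Algebra A B] (p : ℤ)
    (hfin : Module.Finite A (CohIII.T P p (ModuleCat.of A B))) :
    Module.Finite B ((CohIII.bcCx (algebraMap A B) P).homology p) := by
  classical
  let e := tensorBcEquiv P B (sub_add_cancel p 1)
  have hsmul : ∀ (a : A) (y : CohIII.T P p (ModuleCat.of A B)), e (a • y) = algebraMap A B a • e y := fun a y => by
    have hmul : Tmap P p (LinearMap.mulLeft A (algebraMap A B a)) y = a • y := by
      rw [show LinearMap.mulLeft A (algebraMap A B a) = a • (LinearMap.id : B →ₗ[A] B) from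
        LinearMap.ext fun x => (Algebra.smul_def a x).symm]
      exact map_smul_id P p (ModuleCat.of A B) a y
    exact (congrArg e hmul.symm).trans (tensorBcEquiv_mul P B (sub_add_cancel p 1) _ y)
  obtain ⟨s, hs⟩ := hfin.fg_top
  refine ⟨⟨s.image e, top_le_iff.1 fun η _ => ?_⟩⟩
  obtain ⟨y, rfl⟩ := e.surjective η
  have hy : y ∈ Submodule.span A (s : Set (CohIII.T P p (ModuleCat.of A B))) := hs.ge trivial
  induction hy using Submodule.span_induction with
  | mem x hx => exact Submodule.subset_span (Finset.mem_coe.2 (Finset.mem_image_of_mem e (Finset.mem_coe.1 hx)))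
  | zero => rw [map_zero]; exact zero_mem _
  | add a b _ _ ha hb => rw [map_add]; exact add_mem (ha trivial) (hb trivial)
  | smul a x _ hx => rw [hsmul]; exact Submodule.smul_mem _ _ (hx trivial)

theorem exists_away_dRank_eq [IsDomain A] {i₀ : ℤ} (hb : ∀ i < i₀, IsZero (P.X i))
    (hfp : ∀ n : ℤ, Module.FinitePresentation A (H P n)) (N : ℤ) :
    ∃ f : A, f ≠ 0 ∧ ∀ x : PrimeSpectrum A, f ∉ x.asIdeal → ∀ p ≤ N,
      CohIII.dRank P p x = CohIII.dRank P p ⟨⊥, Ideal.isPrime_bot⟩ := by
  obtain ⟨f, hf, hex⟩ := exists_away_exact P hb hfp N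
  refine ⟨f, hf, fun x hx p hp => ?_⟩
  let B := Localization.Away f
  let Q := CohIII.bcCx (algebraMap A B) P
  have := flat_X_baseChange B P
  have hflat : Module.Flat B (H Q p) := ((exact_iff_epi_and_flat Q p).1 (hex p hp)).2
  have : Module.FinitePresentation B (B ⊗[A] H P p) := inferInstance
  have : Module.FinitePresentation B (H Q p) :=
    Module.FinitePresentation.of_equiv ((homologyFlatBaseChange P B p).trans (unitEquiv Q p).symm)
  have hd : ∀ z : PrimeSpectrum B, CohIII.dRank P p (PrimeSpectrum.comap (algebraMap A B) z) =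
      Module.rankAtStalk (H Q p) z := fun z =>
    (dRank_bcCx P B p z).symm.trans ((dRank_eq_finrank Q p (hex p hp).2 z).trans (fibRank_eq_rankAtStalk z))
  have hrange : Set.range (PrimeSpectrum.comap (algebraMap A B)) = PrimeSpectrum.basicOpen f :=
    PrimeSpectrum.localization_away_comap_range B f
  obtain ⟨z, rfl⟩ : x ∈ Set.range (PrimeSpectrum.comap (algebraMap A B)) := hrange.ge hx
  obtain ⟨z₀, hz₀⟩ : (⟨⊥, Ideal.isPrime_bot⟩ : PrimeSpectrum A) ∈ Set.range (PrimeSpectrum.comap (algebraMap A B)) :=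
    hrange.ge fun h : f ∈ (⊥ : Ideal A) => hf h
  rw [hd, ← hz₀, hd]
  have : IsDomain B := IsLocalization.isDomain_localization (powers_le_nonZeroDivisors_of_noZeroDivisors hf)
  exact (Module.isLocallyConstant_rankAtStalk (R := B) (M := H Q p)).apply_eq_of_preconnectedSpace _ _

/-- On a dense open all `dRank p`, `p ≤ N`, are locally constant. -/
theorem exists_dense_open_dRank [IsNoetherianRing A] {i₀ : ℤ} (hb : ∀ i < i₀, IsZero (P.X i))
    (hfg : ∀ n : ℤ, Module.Finite A (H P n)) (N : ℤ) :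
    ∃ U : Set (PrimeSpectrum A), IsOpen U ∧ Dense U ∧
      ∀ p ≤ N, IsLocallyConstant (fun x : U => CohIII.dRank P p x) := by
  classical
  have hmin := (minimalPrimes.finite_of_isNoetherianRing A).to_subtype
  have key : ∀ η : minimalPrimes A, ∃ g : A, g ∉ η.1 ∧ ∀ x : PrimeSpectrum A, g ∉ x.asIdeal → ∀ p ≤ N,
      CohIII.dRank P p x = CohIII.dRank P p ⟨η.1, η.2.1.1⟩ := by
    intro η
    have hηp : η.1.IsPrime := η.2.1.1
    let A' := A ⧸ η.1
    have := flat_X_baseChange A' P
    have hfin : ∀ n : ℤ, Module.FinitePresentation A' (H (CohIII.bcCx (algebraMap A A') P) n) := fun n => by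
      have : Module.Finite A (CohIII.T P n (ModuleCat.of A A')) := by
        rcases lt_or_ge n i₀ with hlt | hge
        · have := subsingleton_T P hb hlt (ModuleCat.of A A')
          infer_instance
        · obtain ⟨m, rfl⟩ : ∃ m : ℕ, n = i₀ - 1 + m := ⟨(n - i₀ + 1).toNat, by omega⟩
          exact finite_T P hb hfg m A'
      have := finite_H_baseChange P A' n this
      have : Module.Finite A' (H (CohIII.bcCx (algebraMap A A') P) n) :=
        Module.Finite.equiv (unitEquiv (CohIII.bcCx (algebraMap A A') P) n).symm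
      exact Module.finitePresentation_of_finite _ _
    obtain ⟨f, hf, hd⟩ := exists_away_dRank_eq (CohIII.bcCx (algebraMap A A') P)
      (fun i hi => isZero_bc P (hb i hi)) hfin N
    obtain ⟨f, rfl⟩ := Ideal.Quotient.mk_surjective f
    -- an element outside `η` in all other minimal primes
    have hs : ∀ q : minimalPrimes A, ∃ s : A, s ∉ η.1 ∧ (q.1 ≠ η.1 → s ∈ q.1) := by
      intro q
      by_cases hq : q.1 = η.1
      · exact ⟨1, (Ideal.ne_top_iff_one _).1 hηp.ne_top, fun h => (h hq).elim⟩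
      · obtain ⟨s, hs, hs'⟩ := SetLike.not_le_iff_exists.1
          (fun h : q.1 ≤ η.1 => hq (le_antisymm h (η.2.2 q.2.1 h)))
        exact ⟨s, hs', fun _ => hs⟩
    choose s hs₁ hs₂ using hs
    have := Fintype.ofFinite (minimalPrimes A)
    refine ⟨f * ∏ q : minimalPrimes A, s q, fun h => ?_, fun x hx p hp => ?_⟩
    · rcases hηp.mem_or_mem h with h | h
      · exact hf (Ideal.Quotient.eq_zero_iff_mem.2 h)
      · obtain ⟨q, -, hq⟩ := Ideal.IsPrime.prod_mem_iff.1 h
        exact hs₁ q hq
    · have := x.2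
      obtain ⟨q, hq, hle⟩ := Ideal.exists_minimalPrimes_le (bot_le : ⊥ ≤ x.asIdeal)
      have hqη : q = η.1 := by
        by_contra hne
        exact hx (x.asIdeal.mul_mem_left _ (Ideal.prod_mem (I := x.asIdeal) (s := Finset.univ)
          (f := s) (i := ⟨q, hq⟩) (Finset.mem_univ _) (hle (hs₂ ⟨q, hq⟩ hne))))
      subst hqη
      obtain ⟨z, rfl⟩ : x ∈ Set.range (PrimeSpectrum.comap (algebraMap A A')) := by
        rw [range_comap_of_surjective _ (algebraMap A A') Ideal.Quotient.mk_surjective]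
        show ((RingHom.ker (algebraMap A A') : Ideal A) : Set A) ⊆ x.asIdeal
        rw [Ideal.Quotient.algebraMap_eq, Ideal.mk_ker]
        exact hle
      have hz : Ideal.Quotient.mk η.1 f ∉ z.asIdeal := fun h => hx (Ideal.mul_mem_right _ _ h)
      have h0 : PrimeSpectrum.comap (algebraMap A A') ⟨⊥, Ideal.isPrime_bot⟩ = ⟨η.1, η.2.1.1⟩ :=
        PrimeSpectrum.ext (Ideal.mk_ker)
      rw [← h0, ← dRank_bcCx P A' p z, ← dRank_bcCx P A' p _, hd z hz p hp]
  choose g hg hconst using key
  refine ⟨⋃ η : minimalPrimes A, PrimeSpectrum.basicOpen (g η),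
    isOpen_iUnion fun η => (PrimeSpectrum.basicOpen (g η)).2, ?_, fun p hp => ?_⟩
  · rw [dense_iff_inter_open]
    rintro V hV ⟨x, hx⟩
    have := x.2
    obtain ⟨q, hq, hle⟩ := Ideal.exists_minimalPrimes_le (bot_le : ⊥ ≤ x.asIdeal)
    exact ⟨⟨q, hq.1.1⟩, ((PrimeSpectrum.le_iff_specializes ⟨q, hq.1.1⟩ x).1 hle).mem_open hV hx,
      Set.mem_iUnion.2 ⟨⟨q, hq⟩, hg ⟨q, hq⟩⟩⟩
  · refine (IsLocallyConstant.iff_exists_open _).2 fun x => ?_
    obtain ⟨η, hη⟩ := Set.mem_iUnion.1 x.2
    exact ⟨Subtype.val ⁻¹' PrimeSpectrum.basicOpen (g η), (PrimeSpectrum.basicOpen (g η)).2.preimage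
      continuous_subtype_val, hη, fun y hy => (hconst η _ hy p hp).trans (hconst η _ hη p hp).symm⟩

end Groth.Agent.FlatCxLib
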