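import Groth.Agent.Lib.FlatCx.Exact
import Groth.Agent.Lib.FlatCx.BaseChange
import Mathlib.LinearAlgebra.Dimension.Constructions

/-!
# Homology of the base change against `T_p`
-/

universe u

open CategoryTheory Groth.Agent.DMod
open scoped TensorProduct

noncomputable section

namespace Groth.Agent.FlatCxLib

section Classes

variable {R : Type u} [CommRing R] (Q : ChainComplex (ModuleCat.{u} R) ℤ) {p q : ℤ} (h : q + 1 = p)

/-- Cycles as a kernel. -/
def cyclesKer : Q.cycles p ≃ₗ[R] LinearMap.ker (dl Q p q) :=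
  LinearEquiv.ofBijective ((Q.iCycles p).hom.codRestrict _ fun z => d_iCycles p q z)
    ⟨fun _ _ e => iCycles_injective Q p (congrArg Subtype.val e), fun x => by
      obtain ⟨z, hz⟩ := exists_cycle (next_eq h) x.1 x.2
      exact ⟨z, Subtype.ext hz⟩⟩

/-- The class of a cycle. -/
def cls : LinearMap.ker (dl Q p q) →ₗ[R] Q.homology p :=
  (Q.homologyπ p).hom ∘ₗ (cyclesKer Q h).symm.toLinearMap

theorem cls_surjective : Function.Surjective (cls Q h) :=
  (homologyπ_surjective Q p).comp (cyclesKer Q h).symm.surjective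

theorem iCycles_symm (x : LinearMap.ker (dl Q p q)) : Q.iCycles p ((cyclesKer Q h).symm x) = x.1 :=
  congrArg Subtype.val ((cyclesKer Q h).apply_symm_apply x)

theorem cls_eq_zero_iff (x : LinearMap.ker (dl Q p q)) :
    cls Q h x = 0 ↔ ∃ y, dl Q (p + 1) p y = x.1 := by
  refine (homologyπ_eq_zero_iff (prev_eq p) _).trans (exists_congr fun y => ?_)
  rw [LinearEquiv.coe_coe, iCycles_symm]

end Classes

variable {A : Type u} [CommRing A] (P : ChainComplex (ModuleCat.{u} A) ℤ)

theorem Tmap_cls {M N : Type u} [AddCommGroup M] [Module A M] [AddCommGroup N] [Module A N] (g : M →ₗ[A] N)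
    {p q : ℤ} (h : q + 1 = p) (x : LinearMap.ker (dl (CohIII.tensorObj P (ModuleCat.of A M)) p q))
    (hx : g.lTensor (P.X p) x.1 ∈ LinearMap.ker (dl (CohIII.tensorObj P (ModuleCat.of A N)) p q)) :
    Tmap P p g (cls (CohIII.tensorObj P (ModuleCat.of A M)) h x) =
      cls (CohIII.tensorObj P (ModuleCat.of A N)) h ⟨g.lTensor (P.X p) x.1, hx⟩ := by
  refine (Tmap_π P p g _).trans (congrArg _ (iCycles_injective _ p ?_))
  rw [iCycles_Tmap]
  exact (congrArg (g.lTensor (P.X p)) (iCycles_symm _ h x)).trans (iCycles_symm _ h ⟨_, hx⟩).symm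

variable (B : Type u) [CommRing B] [Algebra A B]

/-- The degreewise identification. -/
def degEquiv (i : ℤ) : P.X i ⊗[A] B ≃+ ((CohIII.bcCx (algebraMap A B) P).X i) :=
  (TensorProduct.comm A (P.X i) B).toAddEquiv.trans (extEquiv B (P.X i)).symm.toAddEquiv

theorem extEquiv_degEquiv (i : ℤ) (x : P.X i ⊗[A] B) :
    extEquiv B (P.X i) (degEquiv P B i x) = TensorProduct.comm A (P.X i) B x :=
  (extEquiv B (P.X i)).apply_symm_apply _

theorem degEquiv_dl (r i : ℤ) (x : P.X r ⊗[A] B) :
    dl (CohIII.bcCx (algebraMap A B) P) r i (degEquiv P B r x) = degEquiv P B i ((dl P r i).rTensor B x) := by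
  refine (extEquiv B (P.X i)).injective ((extEquiv_map B (P.d r i) _).trans ?_)
  refine (congrArg ((P.d r i).hom.baseChange B) (extEquiv_degEquiv P B r x)).trans ?_
  refine Eq.trans ?_ (extEquiv_degEquiv P B i _).symm
  induction x using TensorProduct.induction_on with
  | zero => simp
  | tmul a b => rfl
  | add a b ha hb => simp only [map_add, ha, hb]

theorem degEquiv_smul (i : ℤ) (b : B) (x : P.X i ⊗[A] B) :
    degEquiv P B i ((LinearMap.mulLeft A b).lTensor (P.X i) x) = b • degEquiv P B i x := by
  refine (extEquiv B (P.X i)).injective (Eq.trans ?_ (map_smul (extEquiv B (P.X i)) b _).symm)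
  refine (extEquiv_degEquiv P B i _).trans ?_
  refine Eq.trans ?_ (congrArg (b • ·) (extEquiv_degEquiv P B i x)).symm
  induction x using TensorProduct.induction_on with
  | zero => simp
  | tmul a c => rfl
  | add a c ha hc => simp only [map_add, smul_add, ha, hc]

variable {p q : ℤ} (h : q + 1 = p)

/-- The class map into the base change. -/
def kerToBc : LinearMap.ker (dl (CohIII.tensorObj P (ModuleCat.of A B)) p q) →+
    (CohIII.bcCx (algebraMap A B) P).homology p :=
  (cls (CohIII.bcCx (algebraMap A B) P) h).toAddMonoidHom.comp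
    { toFun := fun x => ⟨degEquiv P B p x.1, by
        refine (degEquiv_dl P B p q x.1).trans ?_
        exact (congrArg (degEquiv P B q) x.2).trans (map_zero _)⟩
      map_zero' := Subtype.ext (map_zero (degEquiv P B p))
      map_add' := fun a b => Subtype.ext (map_add (degEquiv P B p) a.1 b.1) }

theorem kerToBc_surjective : Function.Surjective (kerToBc P B h) := by
  intro η
  obtain ⟨⟨y, hy⟩, rfl⟩ := cls_surjective _ h η
  refine ⟨⟨(degEquiv P B p).symm y, (degEquiv P B q).injective ?_⟩, congrArg (cls (CohIII.bcCx (algebraMap A B) P) h) (Subtype.ext ((degEquiv P B p).apply_symm_apply y))⟩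
  exact (degEquiv_dl P B p q _).symm.trans ((congrArg _ ((degEquiv P B p).apply_symm_apply y)).trans
    (hy.trans (map_zero _).symm))

theorem kerToBc_eq_zero_iff (x : LinearMap.ker (dl (CohIII.tensorObj P (ModuleCat.of A B)) p q)) :
    kerToBc P B h x = 0 ↔ cls (CohIII.tensorObj P (ModuleCat.of A B)) h x = 0 := by
  rw [cls_eq_zero_iff]
  refine (cls_eq_zero_iff _ h _).trans ⟨fun ⟨y, hy⟩ => ?_, fun ⟨y, hy⟩ => ?_⟩
  · refine ⟨(degEquiv P B (p + 1)).symm y, (degEquiv P B p).injective ?_⟩
    exact (degEquiv_dl P B (p + 1) p _).symm.trans ((congrArg _ ((degEquiv P B (p + 1)).apply_symm_apply y)).trans hy)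
  · exact ⟨degEquiv P B (p + 1) y, (degEquiv_dl P B (p + 1) p y).trans (congrArg _ hy)⟩

/-- `T_p(B)` is the homology of the base change. -/
def tensorBcEquiv : CohIII.T P p (ModuleCat.of A B) ≃+ (CohIII.bcCx (algebraMap A B) P).homology p :=
  have e : (cls (CohIII.tensorObj P (ModuleCat.of A B)) h).toAddMonoidHom.ker = (kerToBc P B h).ker := by
    ext x; exact (kerToBc_eq_zero_iff P B h x).symm
  (QuotientAddGroup.quotientKerEquivOfSurjective (cls (CohIII.tensorObj P (ModuleCat.of A B)) h).toAddMonoidHom
      (cls_surjective _ h)).symm.trans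
    ((QuotientAddGroup.quotientAddEquivOfEq e).trans
      (QuotientAddGroup.quotientKerEquivOfSurjective (kerToBc P B h) (kerToBc_surjective P B h)))

theorem tensorBcEquiv_cls (x : LinearMap.ker (dl (CohIII.tensorObj P (ModuleCat.of A B)) p q)) :
    tensorBcEquiv P B h (cls (CohIII.tensorObj P (ModuleCat.of A B)) h x) = kerToBc P B h x := by
  have e : (QuotientAddGroup.quotientKerEquivOfSurjective
      (cls (CohIII.tensorObj P (ModuleCat.of A B)) h).toAddMonoidHom (cls_surjective _ h)).symm
      (cls (CohIII.tensorObj P (ModuleCat.of A B)) h x) = QuotientAddGroup.mk x :=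
    (AddEquiv.symm_apply_eq _).2 rfl
  simp only [tensorBcEquiv, AddEquiv.trans_apply, e]
  rfl

theorem tensorBcEquiv_mul (b : B) (y : CohIII.T P p (ModuleCat.of A B)) :
    tensorBcEquiv P B h (Tmap P p (LinearMap.mulLeft A b) y) = b • tensorBcEquiv P B h y := by
  obtain ⟨x, rfl⟩ := cls_surjective (CohIII.tensorObj P (ModuleCat.of A B)) h y
  have hx : (LinearMap.mulLeft A b).lTensor (P.X p) x.1 ∈
      LinearMap.ker (dl (CohIII.tensorObj P (ModuleCat.of A B)) p q) :=
    (lTensor_dl P p q (LinearMap.mulLeft A b) x.1).trans ((congrArg _ x.2).trans (map_zero _))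
  rw [Tmap_cls P _ h x hx, tensorBcEquiv_cls, tensorBcEquiv_cls]
  refine Eq.trans ?_ (map_smul (cls (CohIII.bcCx (algebraMap A B) P) h) b _)
  exact congrArg (cls (CohIII.bcCx (algebraMap A B) P) h) (Subtype.ext (degEquiv_smul P B p b x.1))

/-- `T_p(A) = H_p(P)`. -/
def unitEquiv (p : ℤ) : H P p ≃ₗ[A] P.homology p :=
  ((HomologicalComplex.homologyFunctor (ModuleCat.{u} A) (ComplexShape.down ℤ) p).mapIso
    (HomologicalComplex.Hom.isoOfComponents (C₁ := CohIII.tensorObj P (ModuleCat.of A A)) (C₂ := P)
      (fun i => (TensorProduct.rid A (P.X i)).toModuleIso) fun i j _ =>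
      ModuleCat.hom_ext (LinearMap.ext fun x => by
        change (P.d i j).hom (TensorProduct.rid A (P.X i) x) = TensorProduct.rid A (P.X j) ((dl P i j).rTensor A x)
        induction x using TensorProduct.induction_on with
        | zero => simp
        | tmul a c => exact map_smul (P.d i j).hom c a
        | add a c ha hc => simp only [map_add, ha, hc]))).toLinearEquiv

/-- Homology commutes with a base change when the comparison map is bijective. -/
def homologyBaseChangeOfBijective (hθ : Function.Bijective (theta P p B)) :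
    B ⊗[A] H P p ≃ₗ[B] (CohIII.bcCx (algebraMap A B) P).homology p :=
  { (TensorProduct.comm A B (H P p)).toAddEquiv.trans
      ((LinearEquiv.ofBijective _ hθ).toAddEquiv.trans (tensorBcEquiv P B h)) with
    map_smul' := fun b z => by
      induction z using TensorProduct.induction_on with
      | zero =>
        simp only [smul_zero, AddEquiv.toEquiv_eq_coe, Equiv.toFun_as_coe, AddEquiv.coe_toEquiv, map_zero]
      | tmul c t =>
        refine Eq.trans ?_ (tensorBcEquiv_mul P B h b _)
        refine congrArg (tensorBcEquiv P B h) ?_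
        exact theta_natural P p (LinearMap.mulLeft A b) (t ⊗ₜ[A] c)
      | add a c ha hc =>
        simp only [AddEquiv.toEquiv_eq_coe, Equiv.toFun_as_coe, AddEquiv.coe_toEquiv] at ha hc ⊢
        rw [smul_add, map_add, map_add, ha, hc, smul_add] }

/-- Right exactness makes homology commute with any base change. -/
def homologyBaseChange [∀ i, Module.Flat A (P.X i)] (he : (CohIII.TFun P p).PreservesEpimorphisms) :
    B ⊗[A] H P p ≃ₗ[B] (CohIII.bcCx (algebraMap A B) P).homology p :=
  homologyBaseChangeOfBijective P B h (theta_bijective P p he B)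

theorem dRank_eq_finrank [∀ i, Module.Flat A (P.X i)] (p : ℤ)
    (he : (CohIII.TFun P p).PreservesEpimorphisms) (x : PrimeSpectrum A) :
    CohIII.dRank P p x = Module.finrank x.asIdeal.ResidueField (x.asIdeal.ResidueField ⊗[A] H P p) :=
  (homologyBaseChange P x.asIdeal.ResidueField (sub_add_cancel p 1) he).finrank_eq.symm

end Groth.Agent.FlatCxLib
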