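import Groth.Agent.Lib.FlatCx.Basic
import Mathlib.CategoryTheory.Monoidal.Category

/-!
# A right exact homological functor is a tensor product

The natural comparison `θ : T_p(A) ⊗ M → T_p(M)` is bijective when `T_p` preserves epimorphisms.
-/

universe u

open CategoryTheory Groth.Agent.DMod
open scoped TensorProduct MonoidalCategory

noncomputable section

namespace Groth.Agent.FlatCxLib

variable {A : Type u} [CommRing A] (P : ChainComplex (ModuleCat.{u} A) ℤ) (p : ℤ)

/-- The underlying linear map of `T_p(g)`. -/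
abbrev Tmap {M N : Type u} [AddCommGroup M] [Module A M] [AddCommGroup N] [Module A N]
    (g : M →ₗ[A] N) : CohIII.T P p (ModuleCat.of A M) →ₗ[A] CohIII.T P p (ModuleCat.of A N) :=
  ((CohIII.TFun P p).map (ModuleCat.ofHom g)).hom

variable {M N : Type u} [AddCommGroup M] [Module A M] [AddCommGroup N] [Module A N]

theorem Tmap_π (g : M →ₗ[A] N) (z : (CohIII.tensorObj P (ModuleCat.of A M)).cycles p) :
    Tmap P p g ((CohIII.tensorObj P (ModuleCat.of A M)).homologyπ p z) =
      (CohIII.tensorObj P (ModuleCat.of A N)).homologyπ p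
        (HomologicalComplex.cyclesMap (CohIII.tensorMap P (ModuleCat.ofHom g)) p z) :=
  homologyMap_π (CohIII.tensorMap P (ModuleCat.ofHom g)) p z

theorem iCycles_Tmap (g : M →ₗ[A] N) (z : (CohIII.tensorObj P (ModuleCat.of A M)).cycles p) :
    (CohIII.tensorObj P (ModuleCat.of A N)).iCycles p
        (HomologicalComplex.cyclesMap (CohIII.tensorMap P (ModuleCat.ofHom g)) p z) =
      g.lTensor (P.X p) ((CohIII.tensorObj P (ModuleCat.of A M)).iCycles p z) :=
  iCycles_cyclesMap _ p z

theorem Tmap_add (g g' : M →ₗ[A] N) : Tmap P p (g + g') = Tmap P p g + Tmap P p g' := by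
  ext y
  obtain ⟨z, rfl⟩ := homologyπ_surjective (CohIII.tensorObj P (ModuleCat.of A M)) p y
  rw [LinearMap.add_apply, Tmap_π, Tmap_π, Tmap_π, ← map_add]
  refine congrArg _ (iCycles_injective _ p ?_)
  rw [map_add, iCycles_Tmap, iCycles_Tmap, iCycles_Tmap, LinearMap.lTensor_add]
  rfl

theorem Tmap_smul (a : A) (g : M →ₗ[A] N) : Tmap P p (a • g) = a • Tmap P p g := by
  ext y
  obtain ⟨z, rfl⟩ := homologyπ_surjective (CohIII.tensorObj P (ModuleCat.of A M)) p y
  rw [LinearMap.smul_apply, Tmap_π, Tmap_π, ← map_smul]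
  refine congrArg _ (iCycles_injective _ p ?_)
  rw [map_smul, iCycles_Tmap, iCycles_Tmap, LinearMap.lTensor_smul]
  rfl

theorem Tmap_comp {L : Type u} [AddCommGroup L] [Module A L] (f : L →ₗ[A] M) (g : M →ₗ[A] N) :
    Tmap P p (g ∘ₗ f) = Tmap P p g ∘ₗ Tmap P p f := by
  rw [Tmap, ModuleCat.ofHom_comp, Functor.map_comp]
  rfl

theorem Tmap_id : Tmap P p (LinearMap.id : M →ₗ[A] M) = LinearMap.id := by
  rw [Tmap, ModuleCat.ofHom_id, CategoryTheory.Functor.map_id]
  rfl

/-- `T_p(A)`. -/
abbrev H : Type u := CohIII.T P p (ModuleCat.of A A)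

/-- The comparison `T_p(A) ⊗ M → T_p(M)`, `h ⊗ m ↦ T_p(a ↦ a m)(h)`. -/
def theta (M : Type u) [AddCommGroup M] [Module A M] :
    H P p ⊗[A] M →ₗ[A] CohIII.T P p (ModuleCat.of A M) :=
  TensorProduct.lift <| LinearMap.mk₂ A
    (fun h m => Tmap P p (LinearMap.toSpanSingleton A M m) h)
    (fun _ _ _ => map_add _ _ _) (fun _ _ _ => map_smul _ _ _)
    (fun h m m' => by rw [LinearMap.toSpanSingleton_add, Tmap_add]; rfl)
    (fun a h m => by rw [LinearMap.toSpanSingleton_smul, Tmap_smul]; rfl)

theorem theta_tmul (h : H P p) (m : M) :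
    theta P p M (h ⊗ₜ[A] m) = Tmap P p (LinearMap.toSpanSingleton A M m) h := rfl

theorem theta_natural (g : M →ₗ[A] N) (x : H P p ⊗[A] M) :
    theta P p N (g.lTensor _ x) = Tmap P p g (theta P p M x) := by
  induction x using TensorProduct.induction_on with
  | zero => simp
  | tmul h m =>
    rw [LinearMap.lTensor_tmul, theta_tmul, theta_tmul, ← LinearMap.comp_apply, ← Tmap_comp]
    exact congrArg (fun f => Tmap P p f h) (LinearMap.comp_toSpanSingleton g m).symm
  | add a b ha hb => simp only [map_add, ha, hb]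

theorem theta_self (x : H P p ⊗[A] A) : theta P p A x = TensorProduct.rid A (H P p) x := by
  induction x using TensorProduct.induction_on with
  | zero => simp
  | tmul h a =>
    rw [theta_tmul, TensorProduct.rid_tmul,
      show LinearMap.toSpanSingleton A A a = a • LinearMap.id from
        LinearMap.ext fun b => mul_comm b a, Tmap_smul, Tmap_id]
    rfl
  | add a b ha hb => simp only [map_add, ha, hb]

/-- An element of `X ⊗ (ι →₀ A)` is the sum of its finitely many components. -/
theorem exists_sum_components {X : Type u} [AddCommGroup X] [Module A X] {ι : Type u}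
    (x : X ⊗[A] (ι →₀ A)) :
    ∃ s : Finset ι, ∀ t : Finset ι, s ⊆ t →
      x = ∑ i ∈ t, (Finsupp.lsingle i : A →ₗ[A] ι →₀ A).lTensor X
        ((Finsupp.lapply i : (ι →₀ A) →ₗ[A] A).lTensor X x) := by
  classical
  induction x using TensorProduct.induction_on with
  | zero => exact ⟨∅, fun t _ => by simp⟩
  | tmul y f =>
    refine ⟨f.support, fun t ht => ?_⟩
    simp only [LinearMap.lTensor_tmul, Finsupp.lapply_apply, Finsupp.lsingle_apply, ← TensorProduct.tmul_sum]
    congr 1
    conv_lhs => rw [← f.sum_single]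
    exact Finset.sum_subset ht fun i _ hi => by simp [Finsupp.notMem_support_iff.1 hi]
  | add a b ha hb =>
    obtain ⟨s, hs⟩ := ha
    obtain ⟨s', hs'⟩ := hb
    refine ⟨s ∪ s', fun t ht => ?_⟩
    simp only [map_add, Finset.sum_add_distrib]
    rw [← hs t (Finset.union_subset_left ht), ← hs' t (Finset.union_subset_right ht)]

theorem theta_injective_free (ι : Type u) : Function.Injective (theta P p (ι →₀ A)) := by
  rw [injective_iff_map_eq_zero]
  intro x hx
  obtain ⟨s, hs⟩ := exists_sum_components x
  rw [hs s subset_rfl]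
  refine Finset.sum_eq_zero fun i _ => ?_
  suffices (Finsupp.lapply i : (ι →₀ A) →ₗ[A] A).lTensor (H P p) x = 0 by rw [this, map_zero]
  apply (TensorProduct.rid A (H P p)).injective
  rw [← theta_self, theta_natural, hx, map_zero, map_zero]

theorem theta_surjective_free (ι : Type u) : Function.Surjective (theta P p (ι →₀ A)) := by
  intro y
  obtain ⟨z, rfl⟩ := homologyπ_surjective (CohIII.tensorObj P (ModuleCat.of A (ι →₀ A))) p y
  obtain ⟨s, hs⟩ := exists_sum_components (X := P.X p)
    ((CohIII.tensorObj P (ModuleCat.of A (ι →₀ A))).iCycles p z)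
  have e : z = ∑ i ∈ s, HomologicalComplex.cyclesMap
      (CohIII.tensorMap P (ModuleCat.ofHom (Finsupp.lsingle i : A →ₗ[A] ι →₀ A))) p
      (HomologicalComplex.cyclesMap
        (CohIII.tensorMap P (ModuleCat.ofHom (Finsupp.lapply i : (ι →₀ A) →ₗ[A] A))) p z) := by
    apply iCycles_injective _ p
    rw [map_sum]
    refine (hs s subset_rfl).trans (Finset.sum_congr rfl fun i _ => ?_)
    rw [iCycles_Tmap, iCycles_Tmap]
  rw [e, map_sum]
  refine ⟨∑ i ∈ s, (Finsupp.lsingle i : A →ₗ[A] ι →₀ A).lTensor (H P p)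
    ((TensorProduct.rid A (H P p)).symm
      (Tmap P p (Finsupp.lapply i : (ι →₀ A) →ₗ[A] A)
        ((CohIII.tensorObj P (ModuleCat.of A (ι →₀ A))).homologyπ p z))), ?_⟩
  rw [map_sum]
  refine Finset.sum_congr rfl fun i _ => ?_
  rw [theta_natural, theta_self, LinearEquiv.apply_symm_apply, Tmap_π, Tmap_π]

variable [hP : ∀ i, Module.Flat A (P.X i)]

omit hP in
theorem Tmap_surjective (h : (CohIII.TFun P p).PreservesEpimorphisms) {g : M →ₗ[A] N}
    (hg : Function.Surjective g) : Function.Surjective (Tmap P p g) := by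
  have : Epi (ModuleCat.ofHom g) := (ModuleCat.epi_iff_surjective _).2 hg
  exact (ModuleCat.epi_iff_surjective ((CohIII.TFun P p).map (ModuleCat.ofHom g))).1 inferInstance

/-- `T_p` is exact in the middle. -/
theorem Tmap_exact {L : Type u} [AddCommGroup L] [Module A L] {i : L →ₗ[A] M} {g : M →ₗ[A] N}
    (hi : Function.Injective i) (hg : Function.Surjective g) (hex : Function.Exact i g) :
    Function.Exact (Tmap P p i) (Tmap P p g) := by
  obtain ⟨q, hq⟩ : ∃ q, q + 1 = p := ⟨p - 1, by omega⟩
  intro y
  refine ⟨fun hy => ?_, ?_⟩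
  · obtain ⟨z, rfl⟩ := homologyπ_surjective (CohIII.tensorObj P (ModuleCat.of A M)) p y
    rw [Tmap_π, homologyπ_eq_zero_iff (prev_eq p)] at hy
    obtain ⟨v', hv'⟩ := hy
    obtain ⟨v, rfl⟩ := LinearMap.lTensor_surjective (P.X (p + 1)) hg v'
    rw [iCycles_Tmap] at hv'
    change (dl P (p + 1) p).rTensor N (g.lTensor _ v) = _ at hv'
    rw [lTensor_dl] at hv'
    obtain ⟨k, hk⟩ := (lTensor_exact (P.X p) hex hg
      ((show P.X p ⊗[A] M from (CohIII.tensorObj P (ModuleCat.of A M)).iCycles p z) -
        (dl P (p + 1) p).rTensor M v)).1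
        (by rw [map_sub, hv', sub_self])
    obtain ⟨zk, hzk⟩ := exists_cycle (K := CohIII.tensorObj P (ModuleCat.of A L)) (next_eq hq) k (by
      change (dl P p q).rTensor L k = 0
      apply Module.Flat.lTensor_preserves_injective_linearMap (M := P.X q) i hi
      rw [map_zero, ← lTensor_dl, hk, map_sub, dl_dl_tensor, sub_zero]
      exact d_iCycles p q z)
    refine ⟨(CohIII.tensorObj P (ModuleCat.of A L)).homologyπ p zk, ?_⟩
    rw [Tmap_π, ← sub_eq_zero, ← map_sub, homologyπ_eq_zero_iff (prev_eq p)]
    refine ⟨-v, ?_⟩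
    rw [map_sub, iCycles_Tmap, hzk, hk]
    change (dl P (p + 1) p).rTensor M (-v) = _
    rw [map_neg]
    exact (sub_sub_cancel_left _ _).symm
  · rintro ⟨x, rfl⟩
    rw [← LinearMap.comp_apply, ← Tmap_comp, show g ∘ₗ i = (0 : A) • LinearMap.comp g i by
      rw [zero_smul]; exact LinearMap.ext hex.apply_apply_eq_zero, Tmap_smul, zero_smul,
      LinearMap.zero_apply]

omit hP in
theorem theta_surjective (h : (CohIII.TFun P p).PreservesEpimorphisms) (M : Type u) [AddCommGroup M]
    [Module A M] : Function.Surjective (theta P p M) := by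
  have hg : Function.Surjective (Finsupp.linearCombination A (id : M → M)) :=
    Finsupp.linearCombination_id_surjective A M
  intro y
  obtain ⟨y', rfl⟩ := Tmap_surjective P p h hg y
  obtain ⟨x, rfl⟩ := theta_surjective_free P p M y'
  exact ⟨_, theta_natural P p _ x⟩

theorem theta_injective_of_exact (h : (CohIII.TFun P p).PreservesEpimorphisms) {K F : Type u}
    [AddCommGroup K] [Module A K] [AddCommGroup F] [Module A F] {i : K →ₗ[A] F} {g : F →ₗ[A] M}
    (hi : Function.Injective i) (hg : Function.Surjective g) (hex : Function.Exact i g)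
    (hF : Function.Injective (theta P p F)) : Function.Injective (theta P p M) := by
  rw [injective_iff_map_eq_zero]
  intro x hx
  obtain ⟨x', rfl⟩ := LinearMap.lTensor_surjective (H P p) hg x
  rw [theta_natural] at hx
  obtain ⟨k, hk⟩ := (Tmap_exact P p hi hg hex _).1 hx
  obtain ⟨k', rfl⟩ := theta_surjective P p h K k
  rw [← theta_natural] at hk
  rw [← hF hk]
  exact (lTensor_exact (H P p) hex hg).apply_apply_eq_zero k'

theorem theta_bijective (h : (CohIII.TFun P p).PreservesEpimorphisms) (M : Type u) [AddCommGroup M]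
    [Module A M] : Function.Bijective (theta P p M) :=
  ⟨theta_injective_of_exact P p h (K := LinearMap.ker (Finsupp.linearCombination A (id : M → M)))
    (i := (LinearMap.ker (Finsupp.linearCombination A (id : M → M))).subtype)
    (g := Finsupp.linearCombination A (id : M → M)) (Submodule.injective_subtype _)
    (Finsupp.linearCombination_id_surjective A M) (LinearMap.exact_subtype_ker_map _)
    (theta_injective_free P p M), theta_surjective P p h M⟩

/-- The natural isomorphism of `T_p` with `T_p(A) ⊗ -`. -/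
def isoTensorLeft (h : (CohIII.TFun P p).PreservesEpimorphisms) :
    CohIII.TFun P p ≅ MonoidalCategory.tensorLeft (CohIII.T P p (ModuleCat.of A A)) :=
  (NatIso.ofComponents (F := MonoidalCategory.tensorLeft (CohIII.T P p (ModuleCat.of A A)))
    (G := CohIII.TFun P p)
    (fun M => (LinearEquiv.ofBijective (theta P p M) (theta_bijective P p h M)).toModuleIso)
    (fun {X Y} g => ModuleCat.hom_ext (LinearMap.ext fun x => theta_natural P p g.hom x))).symm

omit hP in
theorem preservesEpi_of_iso {Q : ModuleCat.{u} A}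
    (e : CohIII.TFun P p ≅ MonoidalCategory.tensorLeft Q) :
    (CohIII.TFun P p).PreservesEpimorphisms := by
  have : (MonoidalCategory.tensorLeft Q).PreservesEpimorphisms :=
    ⟨fun {_ _} g hg => (ModuleCat.epi_iff_surjective _).2
      (LinearMap.lTensor_surjective Q ((ModuleCat.epi_iff_surjective g).1 hg))⟩
  exact Functor.PreservesEpimorphisms.of_iso e.symm

theorem preservesMono_tensorLeft_iff (Q : ModuleCat.{u} A) :
    (MonoidalCategory.tensorLeft Q).PreservesMonomorphisms ↔ Module.Flat A Q := by
  constructor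
  · intro h
    rw [Module.Flat.iff_lTensor_preserves_injective_linearMap]
    intro K L _ _ _ _ i hi
    have : Mono (ModuleCat.ofHom i) := (ModuleCat.mono_iff_injective _).2 hi
    exact (ModuleCat.mono_iff_injective ((MonoidalCategory.tensorLeft Q).map (ModuleCat.ofHom i))).1
      inferInstance
  · intro h
    exact ⟨fun {_ _} g hg => (ModuleCat.mono_iff_injective _).2
      (Module.Flat.lTensor_preserves_injective_linearMap _ ((ModuleCat.mono_iff_injective g).1 hg))⟩

theorem exact_iff_epi_and_flat :
    ((CohIII.TFun P p).PreservesMonomorphisms ∧ (CohIII.TFun P p).PreservesEpimorphisms) ↔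
      (CohIII.TFun P p).PreservesEpimorphisms ∧ Module.Flat A (H P p) := by
  constructor
  · rintro ⟨hm, he⟩
    exact ⟨he, (preservesMono_tensorLeft_iff _).1
      (Functor.PreservesMonomorphisms.of_iso (isoTensorLeft P p he))⟩
  · rintro ⟨he, hf⟩
    have := (preservesMono_tensorLeft_iff (CohIII.T P p (ModuleCat.of A A))).2 hf
    exact ⟨Functor.PreservesMonomorphisms.of_iso (isoTensorLeft P p he).symm, he⟩

end Groth.Agent.FlatCxLib
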