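import Groth.Agent.Lib.DMod.Homology
import Mathlib.RingTheory.Flat.Equalizer
import Mathlib.RingTheory.Flat.Localization
import Mathlib.RingTheory.Flat.Stability
import Mathlib.RingTheory.LocalRing.Module
import Mathlib.RingTheory.Localization.AtPrime.Basic
import Mathlib.Algebra.Category.ModuleCat.Monoidal.Basic
import Mathlib.Algebra.Homology.HomotopyCategory.Acyclic
import Mathlib.Algebra.Homology.Additive
import Mathlib.CategoryTheory.Monoidal.Preadditive
import Mathlib.Algebra.Category.ModuleCat.Biproducts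
import Mathlib.RingTheory.Flat.Basic
import Mathlib.LinearAlgebra.TensorProduct.Prod

/-!
# Bounded above cochain complexes of flat modules
-/

universe u

open CategoryTheory CategoryTheory.Limits Groth.Agent.DMod
open scoped TensorProduct

noncomputable section

namespace Groth.Agent.FlatCxLib

variable {A : Type u} [CommRing A]

/-- The kernel of a surjection between flat modules is flat. -/
theorem flat_ker_of_surjective {F Q : Type u} [AddCommGroup F] [Module A F] [AddCommGroup Q] [Module A Q]
    [Module.Flat A F] [Module.Flat A Q] {f : F →ₗ[A] Q} (hf : Function.Surjective f) :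
    Module.Flat A (LinearMap.ker f) := by
  rw [Module.Flat.iff_rTensor_preserves_injective_linearMap]
  intro M N _ _ _ _ i hi
  have hinj : ∀ (L : Type u) [AddCommGroup L] [Module A L],
      Function.Injective ((LinearMap.ker f).subtype.lTensor L) := fun L _ _ =>
    LinearMap.lTensor_injective_of_exact_of_flat f hf _ (Submodule.injective_subtype _)
      (LinearMap.exact_subtype_ker_map f) L
  intro a b hab
  apply hinj M
  apply Module.Flat.rTensor_preserves_injective_linearMap (M := F) i hi
  rw [← LinearMap.comp_apply, ← LinearMap.comp_apply, LinearMap.rTensor_comp_lTensor,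
    ← LinearMap.lTensor_comp_rTensor, LinearMap.comp_apply, LinearMap.comp_apply, hab]

/-- A product of two flat modules is flat. -/
theorem flat_prod {M N : Type u} [AddCommGroup M] [Module A M] [AddCommGroup N] [Module A N]
    [Module.Flat A M] [Module.Flat A N] : Module.Flat A (M × N) := by
  rw [Module.Flat.iff_lTensor_preserves_injective_linearMap]
  intro X Y _ _ _ _ i hi
  have e : ∀ z, TensorProduct.prodLeft A A M N Y (i.lTensor (M × N) z) =
      (i.lTensor M (TensorProduct.prodLeft A A M N X z).1, i.lTensor N (TensorProduct.prodLeft A A M N X z).2) := by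
    intro z
    induction z using TensorProduct.induction_on with
    | zero => simp [Prod.ext_iff]
    | tmul a b => obtain ⟨a, c⟩ := a; simp [TensorProduct.prodLeft_tmul]
    | add a b ha hb => simp [map_add, ha, hb]
  intro a b hab
  have h := congrArg (TensorProduct.prodLeft A A M N Y) hab
  rw [e, e, Prod.mk.injEq] at h
  exact (TensorProduct.prodLeft A A M N X).injective (Prod.ext
    (Module.Flat.lTensor_preserves_injective_linearMap i hi h.1)
    (Module.Flat.lTensor_preserves_injective_linearMap i hi h.2))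

variable (E : CochainComplex (ModuleCat.{u} A) ℤ)

/-- The differential. -/
abbrev cd (i j : ℤ) : E.X i →ₗ[A] E.X j := (E.d i j).hom

theorem cd_cd (i j k : ℤ) (x : E.X i) : cd E j k (cd E i j x) = 0 :=
  LinearMap.congr_fun (congrArg ModuleCat.Hom.hom (E.d_comp_d i j k)) x

/-- The differential onto the next cycles. -/
def toKer (i j k : ℤ) : E.X i →ₗ[A] LinearMap.ker (cd E j k) :=
  (cd E i j).codRestrict _ (cd_cd E i j k)

theorem toKer_surjective {i j k : ℤ} (hij : i + 1 = j) (hjk : j + 1 = k) (h : E.ExactAt j) :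
    Function.Surjective (toKer E i j k) := by
  intro ⟨x, hx⟩
  obtain ⟨y, hy⟩ := (subsingleton_homology_iff E (CochainComplex.prev ℤ j ▸ (by omega : j - 1 = i))
    (CochainComplex.next ℤ j ▸ hjk)).1 ((exactAt_iff_subsingleton E j).1 h) x hx
  exact ⟨y, Subtype.ext hy⟩

theorem ker_toKer (i j k : ℤ) : LinearMap.ker (toKer E i j k) = LinearMap.ker (cd E i j) :=
  LinearMap.ker_codRestrict _ _ _

variable {E}

theorem flat_ker (hF : ∀ i, Module.Flat A (E.X i)) {b : ℤ} (hb : ∀ i, b < i → IsZero (E.X i)) {d : ℤ}
    (hac : ∀ p, d < p → E.ExactAt p) (p : ℤ) (hp : d ≤ p) : Module.Flat A (LinearMap.ker (cd E p (p + 1))) := by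
  suffices ∀ (n : ℕ) (p : ℤ), d ≤ p → b + 1 ≤ p + n → Module.Flat A (LinearMap.ker (cd E p (p + 1))) from
    this (b + 1 - p).toNat p hp (by omega)
  intro n
  induction n with
  | zero =>
    intro p _ hpb
    have := ModuleCat.subsingleton_of_isZero (hb p (by omega))
    infer_instance
  | succ n ih =>
    intro p hp hpb
    have := ih (p + 1) (by omega) (by omega)
    have := flat_ker_of_surjective (toKer_surjective E (i := p) rfl rfl (hac (p + 1) (by omega)))
    rwa [ker_toKer] at this

/-- An acyclic bounded above complex of flat modules stays exact after tensoring. -/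
theorem exact_rTensor (hF : ∀ i, Module.Flat A (E.X i)) {b : ℤ} (hb : ∀ i, b < i → IsZero (E.X i))
    (hac : ∀ p, E.ExactAt p) (M : Type u) [AddCommGroup M] [Module A M] {i j k : ℤ} (hij : i + 1 = j)
    (hjk : j + 1 = k) (x : E.X j ⊗[A] M) (hx : (cd E j k).rTensor M x = 0) :
    ∃ y, (cd E i j).rTensor M y = x := by
  have hflat : ∀ p, Module.Flat A (LinearMap.ker (cd E p (p + 1))) := fun p =>
    flat_ker hF hb (d := p) (fun q _ => hac q) p le_rfl
  have hsub : ∀ p, Function.Injective ((LinearMap.ker (cd E p (p + 1))).subtype.rTensor M) := fun p => by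
    refine (LinearMap.lTensor_inj_iff_rTensor_inj _ _).1 ?_
    have := hflat (p + 1)
    refine LinearMap.lTensor_injective_of_exact_of_flat (toKer E p (p + 1) (p + 1 + 1))
      (toKer_surjective E rfl rfl (hac (p + 1))) _ (Submodule.injective_subtype _) ?_ M
    rw [← ker_toKer E p (p + 1) (p + 1 + 1)]
    exact LinearMap.exact_subtype_ker_map _
  subst hij hjk
  have h1 : (toKer E (i + 1) (i + 1 + 1) (i + 1 + 1 + 1)).rTensor M x = 0 := hsub (i + 1 + 1) <| by
    rw [map_zero, ← LinearMap.rTensor_comp_apply]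
    exact hx
  obtain ⟨z, hz⟩ := (rTensor_exact M (f := (LinearMap.ker (cd E (i + 1) (i + 1 + 1))).subtype)
    (g := toKer E (i + 1) (i + 1 + 1) (i + 1 + 1 + 1))
    (by rw [← ker_toKer E (i + 1) (i + 1 + 1) (i + 1 + 1 + 1)]; exact LinearMap.exact_subtype_ker_map _)
    (toKer_surjective E rfl rfl (hac (i + 1 + 1))) x).1 h1
  obtain ⟨y, rfl⟩ := LinearMap.rTensor_surjective M (toKer_surjective E (i := i) rfl rfl (hac (i + 1))) z
  exact ⟨y, by rw [← hz, ← LinearMap.rTensor_comp_apply]; rfl⟩

/-- A map is a quasi-isomorphism iff its cone is acyclic. -/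
theorem quasiIso_iff_acyclic {C D : CochainComplex (ModuleCat.{u} A) ℤ} (φ : C ⟶ D) :
    QuasiIso φ ↔ (CochainComplex.mappingCone φ).Acyclic := by
  rw [← HomologicalComplex.mem_quasiIso_iff, ← HomotopyCategory.quotient_map_mem_quasiIso_iff,
    HomotopyCategory.quasiIso_eq_trW_subcategoryAcyclic,
    ← HomotopyCategory.quotient_obj_mem_subcategoryAcyclic_iff_acyclic]
  exact ObjectProperty.trW_iff_of_distinguished _ _ (HomotopyCategory.mappingCone_triangleh_distinguished φ)

theorem quasiIso_tensorRight_map {C D : CochainComplex (ModuleCat.{u} A) ℤ}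
    (hC : ∀ i, Module.Flat A (C.X i)) (hD : ∀ i, Module.Flat A (D.X i))
    {bC : ℤ} (hbC : ∀ i, bC < i → IsZero (C.X i)) {bD : ℤ} (hbD : ∀ i, bD < i → IsZero (D.X i))
    (φ : C ⟶ D) [QuasiIso φ] (M : ModuleCat.{u} A) :
    QuasiIso (((MonoidalCategory.tensorRight M).mapHomologicalComplex (ComplexShape.up ℤ)).map φ) := by
  let E := CochainComplex.mappingCone φ
  have hac : ∀ p, E.ExactAt p := (quasiIso_iff_acyclic φ).1 inferInstance
  let e : ∀ i, E.X i ≅ C.X (i + 1) ⊞ D.X i := fun i => HomologicalComplex.homotopyCofiber.XIsoBiprod φ i (i + 1) rfl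
  have hF : ∀ i, Module.Flat A (E.X i) := fun i =>
    have := hC (i + 1)
    have := hD i
    have : Module.Flat A ↑(ModuleCat.of A (↑(C.X (i + 1)) × ↑(D.X i))) := flat_prod
    Module.Flat.of_linearEquiv ((e i) ≪≫ ModuleCat.biprodIsoProd _ _).toLinearEquiv
  have hb : ∀ i, max bC bD < i → IsZero (E.X i) := fun i hi => by
    have := ModuleCat.subsingleton_of_isZero (hbC (i + 1) (by omega))
    have := ModuleCat.subsingleton_of_isZero (hbD i (by omega))
    have : Subsingleton (E.X i) := ((e i) ≪≫ ModuleCat.biprodIsoProd _ _).toLinearEquiv.toEquiv.subsingleton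
    exact ModuleCat.isZero_of_subsingleton _
  have : (MonoidalCategory.tensorRight M).Additive := inferInstance
  rw [quasiIso_iff_acyclic]
  intro p
  refine HomologicalComplex.ExactAt.of_iso ?_
    (CochainComplex.mappingCone.mapHomologicalComplexIso φ (MonoidalCategory.tensorRight M))
  rw [exactAt_iff_subsingleton, subsingleton_homology_iff _ rfl rfl]
  intro x hx
  exact exact_rTensor hF hb hac M (by simp) (by simp) x hx

/-- Cycles as a kernel. -/
def cyclesKerUp (E : CochainComplex (ModuleCat.{u} A) ℤ) {i j : ℤ} (h : i + 1 = j) :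
    E.cycles i ≃ₗ[A] LinearMap.ker (cd E i j) :=
  LinearEquiv.ofBijective ((E.iCycles i).hom.codRestrict _ fun z => d_iCycles i j z)
    ⟨fun _ _ e => iCycles_injective E i (congrArg Subtype.val e), fun x => by
      obtain ⟨z, hz⟩ := exists_cycle (CochainComplex.next ℤ i ▸ h) x.1 x.2
      exact ⟨z, Subtype.ext hz⟩⟩

section Opcycles

variable [IsNoetherianRing A]

omit [IsNoetherianRing A] in
theorem lTensor_opcycles_injective {Q : CochainComplex (ModuleCat.{u} A) ℤ} (hQ : ∀ i, Module.Flat A (Q.X i))
    {m : Ideal A} {h g i : ℤ}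
    (h2 : ∀ x : Q.X g ⊗[A] (A ⧸ m), (cd Q g i).rTensor (A ⧸ m) x = 0 →
      ∃ y, (cd Q h g).rTensor (A ⧸ m) y = x) :
    Function.Injective (m.subtype.lTensor (Q.X i ⧸ LinearMap.range (cd Q g i))) := by
  rw [injective_iff_map_eq_zero]
  intro z hz
  let r : A →ₗ[A] A ⧸ m := Algebra.linearMap A (A ⧸ m)
  have hr : Function.Surjective r := Ideal.Quotient.mk_surjective
  have hrex : Function.Exact m.subtype r := fun a =>
    Ideal.Quotient.eq_zero_iff_mem.trans ⟨fun ha => ⟨⟨a, ha⟩, rfl⟩, fun ⟨b, hb⟩ => hb ▸ b.2⟩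
  obtain ⟨y, rfl⟩ := LinearMap.rTensor_surjective m (Submodule.mkQ_surjective (LinearMap.range (cd Q g i))) z
  have hex := fun (M : Type u) (_ : AddCommGroup M) (_ : Module A M) =>
    rTensor_exact M (LinearMap.exact_map_mkQ_range (cd Q g i)) (Submodule.mkQ_surjective _)
  rw [← LinearMap.comp_apply, LinearMap.lTensor_comp_rTensor, ← LinearMap.rTensor_comp_lTensor,
    LinearMap.comp_apply] at hz
  obtain ⟨x, hx⟩ := (hex A _ _ _).1 hz
  have hcyc : (cd Q g i).rTensor (A ⧸ m) (r.lTensor (Q.X g) x) = 0 := by
    rw [← LinearMap.comp_apply, LinearMap.rTensor_comp_lTensor, ← LinearMap.lTensor_comp_rTensor,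
      LinearMap.comp_apply, hx]
    exact (lTensor_exact (Q.X i) hrex hr).apply_apply_eq_zero y
  obtain ⟨v', hv'⟩ := h2 _ hcyc
  obtain ⟨v, rfl⟩ := LinearMap.lTensor_surjective (Q.X h) hr v'
  rw [← LinearMap.comp_apply, LinearMap.rTensor_comp_lTensor, ← LinearMap.lTensor_comp_rTensor,
    LinearMap.comp_apply] at hv'
  obtain ⟨xK, hxK⟩ := (lTensor_exact (Q.X g) hrex hr (x - (cd Q h g).rTensor A v)).1
    (by rw [map_sub, hv', sub_self])
  refine (hex m _ _ _).2 ⟨xK, ?_⟩
  have := hQ i
  apply Module.Flat.lTensor_preserves_injective_linearMap (M := Q.X i) m.subtype m.injective_subtype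
  rw [← LinearMap.comp_apply, LinearMap.lTensor_comp_rTensor, ← LinearMap.rTensor_comp_lTensor,
    LinearMap.comp_apply, hxK, map_sub, hx, ← LinearMap.rTensor_comp_apply,
    show cd Q g i ∘ₗ cd Q h g = 0 from LinearMap.ext (cd_cd Q h g i), LinearMap.rTensor_zero,
    LinearMap.zero_apply, sub_zero]

/-- Injectivity of `m ⊗ C → C` at all maximal ideals makes a finite module flat. -/
theorem flat_of_forall_maximal_lTensor_injective (C : Type u) [AddCommGroup C] [Module A C] [Module.Finite A C]
    (h : ∀ (m : Ideal A) [m.IsMaximal], Function.Injective (m.subtype.lTensor C)) : Module.Flat A C := by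
  refine Module.flat_of_localized_maximal C fun m _ => ?_
  let R := Localization.AtPrime m
  let mR := IsLocalRing.maximalIdeal R
  have hmR : mR = m.map (algebraMap A R) := (IsLocalization.AtPrime.map_eq_maximalIdeal m R).symm
  let μ : R ⊗[A] (C ⊗[A] m) →ₗ[A] (R ⊗[A] C) ⊗[R] mR :=
    TensorProduct.lift <| LinearMap.mk₂ A
      (fun r z => r • (TensorProduct.lift (LinearMap.mk₂ A
        (fun c a => ((1 : R) ⊗ₜ[A] c) ⊗ₜ[R] (⟨algebraMap A R a.1, hmR ▸ Ideal.mem_map_of_mem _ a.2⟩ : mR))
        (fun c c' a => by rw [TensorProduct.tmul_add, TensorProduct.add_tmul])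
        (fun t c a => by rw [TensorProduct.tmul_smul, ← TensorProduct.smul_tmul'])
        (fun c a a' => by
          rw [← TensorProduct.tmul_add]
          exact congrArg _ (Subtype.ext (map_add (algebraMap A R) a.1 a'.1)))
        (fun t c a => by
          rw [← TensorProduct.tmul_smul]
          exact congrArg _ (Subtype.ext (((algebraMap A R).map_mul t a.1).trans (Algebra.smul_def t _).symm)))) z))
      (fun r r' z => add_smul r r' _) (fun t r z => smul_assoc t r _)
      (fun r z z' => by rw [map_add, smul_add]) (fun t r z => by rw [map_smul, smul_comm])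
  have hμ : ∀ w, TensorProduct.rid R (R ⊗[A] C) (mR.subtype.lTensor (R ⊗[A] C) (μ w)) =
      ((TensorProduct.rid A C).toLinearMap ∘ₗ m.subtype.lTensor C).lTensor R w := by
    intro w
    induction w using TensorProduct.induction_on with
    | zero => simp
    | add a b ha hb => simp only [map_add, ha, hb]
    | tmul r z =>
      induction z using TensorProduct.induction_on with
      | zero => simp
      | add a b ha hb => simp only [TensorProduct.tmul_add, map_add, ha, hb]
      | tmul c a =>
        simp only [μ, TensorProduct.lift.tmul, LinearMap.mk₂_apply, map_smul, LinearMap.lTensor_tmul,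
          Submodule.subtype_apply, TensorProduct.rid_tmul, LinearMap.comp_apply, LinearEquiv.coe_coe,
          ← TensorProduct.tmul_smul]
        rw [TensorProduct.smul_tmul', smul_eq_mul, mul_one]
        rw [← TensorProduct.smul_tmul]
        congr 1
        simp only [Algebra.algebraMap_self, RingHom.id_apply, Algebra.smul_def, mul_comm]
  have hμs : Function.Surjective μ := by
    intro w
    induction w using TensorProduct.induction_on with
    | zero => exact ⟨0, map_zero _⟩
    | add a b ha hb =>
      obtain ⟨a, rfl⟩ := ha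
      obtain ⟨b, rfl⟩ := hb
      exact ⟨a + b, map_add _ _ _⟩
    | tmul rc s =>
      obtain ⟨s, hs⟩ := s
      have hs' : s ∈ m.map (algebraMap A R) := hmR ▸ hs
      suffices ∃ hs : s ∈ mR, ∀ rc : R ⊗[A] C, ∃ w, μ w = rc ⊗ₜ[R] (⟨s, hs⟩ : mR) from this.2 rc
      clear hs rc
      induction hs' using Submodule.span_induction with
      | mem y hy =>
        obtain ⟨a, ha, rfl⟩ := hy
        refine ⟨(IsLocalization.AtPrime.to_map_mem_maximal_iff R m a).2 ha, fun rc => ?_⟩
        induction rc using TensorProduct.induction_on with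
        | zero => exact ⟨0, by rw [map_zero, TensorProduct.zero_tmul]⟩
        | add c c' hc hc' =>
          obtain ⟨w, hw⟩ := hc
          obtain ⟨w', hw'⟩ := hc'
          exact ⟨w + w', by rw [map_add, hw, hw', TensorProduct.add_tmul]⟩
        | tmul r c =>
          refine ⟨r ⊗ₜ[A] (c ⊗ₜ[A] (⟨a, ha⟩ : m)), ?_⟩
          simp only [μ, TensorProduct.lift.tmul, LinearMap.mk₂_apply]
          rw [TensorProduct.smul_tmul', TensorProduct.smul_tmul', smul_eq_mul, mul_one]
      | zero => exact ⟨zero_mem _, fun rc => ⟨0, by rw [map_zero]; exact (TensorProduct.tmul_zero _ _).symm⟩⟩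
      | add y y' _ _ hy hy' =>
        refine ⟨add_mem hy.1 hy'.1, fun rc => ?_⟩
        obtain ⟨w, hw⟩ := hy.2 rc
        obtain ⟨w', hw'⟩ := hy'.2 rc
        exact ⟨w + w', by rw [map_add, hw, hw', ← TensorProduct.tmul_add]; rfl⟩
      | smul t y _ hy =>
        refine ⟨Ideal.mul_mem_left _ t hy.1, fun rc => ?_⟩
        obtain ⟨w, hw⟩ := hy.2 (t • rc)
        exact ⟨w, by rw [hw, TensorProduct.smul_tmul]; rfl⟩
  have hinj : Function.Injective (mR.subtype.lTensor (R ⊗[A] C)) := by
    intro a b hab
    obtain ⟨a, rfl⟩ := hμs a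
    obtain ⟨b, rfl⟩ := hμs b
    have := Module.Flat.lTensor_preserves_injective_linearMap (M := R)
      ((TensorProduct.rid A C).toLinearMap ∘ₗ m.subtype.lTensor C) ((TensorProduct.rid A C).injective.comp (h m))
      ((hμ a).symm.trans ((congrArg (TensorProduct.rid R (R ⊗[A] C)) hab).trans (hμ b)))
    rw [this]
  have := Module.finitePresentation_of_finite R (R ⊗[A] C)
  have : Module.Free R (R ⊗[A] C) :=
    Module.free_of_maximalIdeal_rTensor_injective ((LinearMap.lTensor_inj_iff_rTensor_inj _ _).1 hinj)
  have : Module.Flat R (LocalizedModule m.primeCompl C) :=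
    Module.Flat.of_linearEquiv (LocalizedModule.equivTensorProduct m.primeCompl C)
  exact Module.Flat.trans A R (LocalizedModule m.primeCompl C)

end Opcycles

end Groth.Agent.FlatCxLib
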