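import Groth.Prelude.Def_ega3
import Groth.Agent.Lib.DMod.Homology
import Mathlib.RingTheory.Flat.Basic
import Mathlib.RingTheory.Flat.Tensor
import Mathlib.LinearAlgebra.TensorProduct.RightExactness
import Mathlib.CategoryTheory.Functor.EpiMono

/-!
# Homological functors of complexes of flat modules

`T_p` takes epis to epis iff the cokernel of `d_{p, p-1}` is flat; monos to monos iff that of `d_{p+1, p}` is.
-/

universe u

open CategoryTheory Groth.Agent.DMod
open scoped TensorProduct MonoidalCategory

noncomputable section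

namespace Groth.Agent.FlatCxLib

variable {A : Type u} [CommRing A] (P : ChainComplex (ModuleCat.{u} A) ℤ)

/-- The differential out of `P_{p+1}` into `P_p` (`r = p + 1` kept as a variable). -/
abbrev dl (r p : ℤ) : P.X r →ₗ[A] P.X p := (P.d r p).hom

/-- The cokernel of the differential into `P_p`. -/
abbrev Cok (p : ℤ) : Type u := P.X p ⧸ LinearMap.range (dl P (p + 1) p)

theorem next_eq {p q : ℤ} (h : q + 1 = p) : (ComplexShape.down ℤ).next p = q :=
  (ComplexShape.down ℤ).next_eq' h

theorem prev_eq (p : ℤ) : (ComplexShape.down ℤ).prev p = p + 1 :=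
  (ComplexShape.down ℤ).prev_eq' rfl

theorem dl_dl (r p q : ℤ) (x : P.X r) : dl P p q (dl P r p x) = 0 :=
  LinearMap.congr_fun (congrArg ModuleCat.Hom.hom (P.d_comp_d r p q)) x

theorem mk_dl {p : ℤ} (x : P.X (p + 1)) :
    (LinearMap.range (dl P (p + 1) p)).mkQ (dl P (p + 1) p x) = 0 :=
  (Submodule.Quotient.mk_eq_zero _).2 ⟨x, rfl⟩

section Seq

variable {M N : Type u} [AddCommGroup M] [Module A M] [AddCommGroup N] [Module A N]

/-- The class map of `P_p ⊗ M` onto `Cok p ⊗ M`. -/
abbrev qM (p : ℤ) (M : Type u) [AddCommGroup M] [Module A M] :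
    P.X p ⊗[A] M →ₗ[A] Cok P p ⊗[A] M :=
  (LinearMap.range (dl P (p + 1) p)).mkQ.rTensor M

theorem qM_surjective (p : ℤ) : Function.Surjective (qM P p M) :=
  LinearMap.rTensor_surjective M (Submodule.mkQ_surjective _)

theorem qM_exact (p : ℤ) : Function.Exact ((dl P (p + 1) p).rTensor M) (qM P p M) :=
  rTensor_exact M (LinearMap.exact_map_mkQ_range (dl P (p + 1) p)) (Submodule.mkQ_surjective _)

theorem lTensor_qM (p : ℤ) (g : M →ₗ[A] N) (x : P.X p ⊗[A] M) :
    g.lTensor (Cok P p) (qM P p M x) = qM P p N (g.lTensor (P.X p) x) := by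
  induction x using TensorProduct.induction_on with
  | zero => simp
  | tmul a b => rfl
  | add a b ha hb => simp only [map_add, ha, hb]

theorem lTensor_dl (r p : ℤ) (g : M →ₗ[A] N) (x : P.X r ⊗[A] M) :
    (dl P r p).rTensor N (g.lTensor (P.X r) x) = g.lTensor (P.X p) ((dl P r p).rTensor M x) := by
  induction x using TensorProduct.induction_on with
  | zero => simp
  | tmul a b => rfl
  | add a b ha hb => simp only [map_add, ha, hb]

theorem dl_dl_tensor (r p q : ℤ) (x : P.X r ⊗[A] M) :
    (dl P p q).rTensor M ((dl P r p).rTensor M x) = 0 := by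
  rw [← LinearMap.rTensor_comp_apply,
    show dl P p q ∘ₗ dl P r p = 0 from LinearMap.ext (dl_dl P r p q), LinearMap.rTensor_zero,
    LinearMap.zero_apply]

/-- Surjectivity of `T_p(g)`, elementwise. -/
theorem map_surjective_iff {p q : ℤ} (h : q + 1 = p) {M N : ModuleCat.{u} A} (g : M ⟶ N) :
    Function.Surjective ((CohIII.TFun P p).map g).hom ↔
      ∀ x : P.X p ⊗[A] N, (dl P p q).rTensor N x = 0 →
        ∃ (w : P.X p ⊗[A] M) (y : P.X (p + 1) ⊗[A] N), (dl P p q).rTensor M w = 0 ∧
          g.hom.lTensor (P.X p) w + (dl P (p + 1) p).rTensor N y = x :=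
  homologyMap_surjective_iff (CohIII.tensorMap P g) (prev_eq p) (next_eq h)

/-- Injectivity of `T_p(g)`, elementwise. -/
theorem map_injective_iff {p q : ℤ} (h : q + 1 = p) {M N : ModuleCat.{u} A} (g : M ⟶ N) :
    Function.Injective ((CohIII.TFun P p).map g).hom ↔
      ∀ (w : P.X p ⊗[A] M) (y : P.X (p + 1) ⊗[A] N), (dl P p q).rTensor M w = 0 →
        (dl P (p + 1) p).rTensor N y = g.hom.lTensor (P.X p) w →
          ∃ v, (dl P (p + 1) p).rTensor M v = w := by
  refine ⟨fun hinj w y hw hy => ?_, homologyMap_injective (CohIII.tensorMap P g) (prev_eq p) (next_eq h)⟩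
  obtain ⟨z, hz⟩ := exists_cycle (K := CohIII.tensorObj P M) (next_eq h) w hw
  obtain ⟨v, hv⟩ := (homologyπ_eq_zero_iff (K := CohIII.tensorObj P M) (prev_eq p) z).1 (hinj (by
    refine Eq.trans ?_ (map_zero _).symm
    refine (homologyMap_π (CohIII.tensorMap P g) p z).trans ?_
    refine (homologyπ_eq_zero_iff (prev_eq p) _).2 ⟨y, ?_⟩
    rw [iCycles_cyclesMap, hz]
    exact hy))
  exact ⟨v, hv.trans hz⟩

/-- `T_p` turns multiplication by a scalar into multiplication by that scalar. -/
theorem map_smul_id (p : ℤ) (M : ModuleCat.{u} A) (f : A) (y : CohIII.T P p M) :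
    ((CohIII.TFun P p).map (ModuleCat.ofHom (f • (LinearMap.id : M →ₗ[A] M)))).hom y = f • y := by
  obtain ⟨z, rfl⟩ := homologyπ_surjective (CohIII.tensorObj P M) p y
  refine (homologyMap_π (CohIII.tensorMap P _) p z).trans ?_
  refine Eq.trans (congrArg _ (iCycles_injective _ p ?_)) (map_smul _ f z)
  rw [iCycles_cyclesMap, map_smul]
  exact LinearMap.congr_fun ((LinearMap.lTensor_smul (P.X p) f LinearMap.id).trans
    (congrArg (f • ·) (LinearMap.lTensor_id (P.X p) M))) _

end Seq

variable [hP : ∀ i, Module.Flat A (P.X i)]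

section ShortExact

variable {K M N : ModuleCat.{u} A} (i : K ⟶ M) (g : M ⟶ N) (hi : Function.Injective i.hom)
  (hg : Function.Surjective g.hom) (hex : Function.Exact i.hom g.hom)

include hi hg hex in
/-- Along a short exact sequence, `T_p` is surjective at the right iff `Cok_{p-1}` is injective at the left. -/
theorem map_surjective_iff_injective {p q : ℤ} (h : q + 1 = p) :
    Function.Surjective ((CohIII.TFun P p).map g).hom ↔
      Function.Injective (i.hom.lTensor (Cok P q)) := by
  subst h
  rw [map_surjective_iff P (q := q) rfl]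
  constructor
  · intro hs
    rw [injective_iff_map_eq_zero]
    intro z hz
    obtain ⟨y, rfl⟩ := qM_surjective P q z
    rw [lTensor_qM, qM_exact] at hz
    obtain ⟨x, hx⟩ := hz
    have hcyc : (dl P (q + 1) q).rTensor N (g.hom.lTensor (P.X (q + 1)) x) = 0 := by
      rw [lTensor_dl, hx]
      exact (lTensor_exact (P.X q) hex hg).apply_apply_eq_zero y
    obtain ⟨w, v', hw, hv'⟩ := hs _ hcyc
    obtain ⟨v, rfl⟩ := LinearMap.lTensor_surjective (P.X (q + 1 + 1)) hg v'
    rw [lTensor_dl, ← map_add] at hv'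
    obtain ⟨xK, hxK⟩ := (lTensor_exact (P.X (q + 1)) hex hg
      (x - (w + (dl P (q + 1 + 1) (q + 1)).rTensor M v))).1 (by rw [map_sub, hv', sub_self])
    refine (qM_exact P q y).2 ⟨xK, ?_⟩
    apply Module.Flat.lTensor_preserves_injective_linearMap (M := P.X q) i.hom hi
    rw [← lTensor_dl, hxK, map_sub, map_add, hw, dl_dl_tensor, add_zero, sub_zero, hx]
  · intro hinj x' hx'
    obtain ⟨x, rfl⟩ := LinearMap.lTensor_surjective (P.X (q + 1)) hg x'
    rw [lTensor_dl] at hx'
    obtain ⟨y, hy⟩ := (lTensor_exact (P.X q) hex hg _).1 hx'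
    have hq : qM P q K y = 0 := by
      apply hinj
      rw [map_zero, lTensor_qM, hy]
      exact (qM_exact P q).apply_apply_eq_zero x
    obtain ⟨xK, rfl⟩ := (qM_exact P q y).1 hq
    refine ⟨x - i.hom.lTensor (P.X (q + 1)) xK, 0, ?_, ?_⟩
    · rw [map_sub, lTensor_dl, hy, sub_self]
    · rw [map_zero, add_zero, map_sub, sub_eq_self]
      exact (lTensor_exact (P.X (q + 1)) hex hg).apply_apply_eq_zero xK

end ShortExact

/-- `T_p` is injective on `i` iff `Cok_p ⊗ i` is. -/
theorem map_injective_iff_injective {K M : ModuleCat.{u} A} (i : K ⟶ M)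
    (hi : Function.Injective i.hom) (p : ℤ) :
    Function.Injective ((CohIII.TFun P p).map i).hom ↔ Function.Injective (i.hom.lTensor (Cok P p)) := by
  obtain ⟨q, hq⟩ : ∃ q, q + 1 = p := ⟨p - 1, by omega⟩
  rw [map_injective_iff P hq]
  constructor
  · intro hT
    rw [injective_iff_map_eq_zero]
    intro z hz
    obtain ⟨w, rfl⟩ := qM_surjective P p z
    rw [lTensor_qM, qM_exact] at hz
    obtain ⟨y, hy⟩ := hz
    have hw : (dl P p q).rTensor K w = 0 := by
      apply Module.Flat.lTensor_preserves_injective_linearMap (M := P.X q) i.hom hi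
      rw [map_zero, ← lTensor_dl, ← hy, dl_dl_tensor]
    exact (qM_exact P p w).2 (hT w y hw hy)
  · intro hinj w y _ hy
    refine (qM_exact P p w).1 (hinj ?_)
    rw [map_zero, lTensor_qM, ← hy]
    exact (qM_exact P p).apply_apply_eq_zero y

theorem preservesMono_iff (p : ℤ) :
    (CohIII.TFun P p).PreservesMonomorphisms ↔ Module.Flat A (Cok P p) := by
  constructor
  · intro h
    rw [Module.Flat.iff_lTensor_preserves_injective_linearMap]
    intro K M _ _ _ _ i hi
    have hm : Mono (ModuleCat.ofHom i) := (ModuleCat.mono_iff_injective _).2 hi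
    exact (map_injective_iff_injective P (ModuleCat.ofHom i) hi p).1
      ((ModuleCat.mono_iff_injective _).1 inferInstance)
  · intro h
    refine ⟨fun {K M} i hi => (ModuleCat.mono_iff_injective _).2 ?_⟩
    have hi' := (ModuleCat.mono_iff_injective i).1 hi
    exact (map_injective_iff_injective P i hi' p).2
      (Module.Flat.lTensor_preserves_injective_linearMap _ hi')

theorem preservesEpi_iff {p q : ℤ} (hpq : q + 1 = p) :
    (CohIII.TFun P p).PreservesEpimorphisms ↔ Module.Flat A (Cok P q) := by
  constructor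
  · intro h
    rw [Module.Flat.iff_lTensor_preserves_injective_linearMap]
    intro K M _ _ _ _ i hi
    have he : Epi (ModuleCat.ofHom (LinearMap.range i).mkQ) :=
      (ModuleCat.epi_iff_surjective _).2 (Submodule.mkQ_surjective _)
    exact (map_surjective_iff_injective P (ModuleCat.ofHom i) (ModuleCat.ofHom (LinearMap.range i).mkQ) hi
      (Submodule.mkQ_surjective _) i.exact_map_mkQ_range hpq).1
      ((ModuleCat.epi_iff_surjective _).1 inferInstance)
  · intro h
    refine ⟨fun {M N} g hg => (ModuleCat.epi_iff_surjective _).2 ?_⟩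
    exact (map_surjective_iff_injective P (ModuleCat.ofHom (LinearMap.ker g.hom).subtype) g
      (Submodule.injective_subtype _) ((ModuleCat.epi_iff_surjective g).1 hg)
      (LinearMap.exact_subtype_ker_map g.hom) hpq).2
      (Module.Flat.lTensor_preserves_injective_linearMap _ (Submodule.injective_subtype _))

theorem preservesEpi_iff_preservesMono {p q : ℤ} (hpq : q + 1 = p) :
    (CohIII.TFun P p).PreservesEpimorphisms ↔ (CohIII.TFun P q).PreservesMonomorphisms := by
  rw [preservesEpi_iff P hpq, preservesMono_iff P q]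

omit hP in
/-- Opcycles are the cokernel of the differential. -/
def opcyclesEquiv (p : ℤ) : P.opcycles p ≃ₗ[A] Cok P p :=
  (P.opcyclesIsoSc' (p + 1) p (p - 1) (prev_eq p) (next_eq (by omega)) ≪≫
    (P.sc' (p + 1) p (p - 1)).moduleCatOpcyclesIso).toLinearEquiv

end Groth.Agent.FlatCxLib
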