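import Groth.Agent.Lib.FlatCx.Local
import Mathlib.RingTheory.Length
import Mathlib.RingTheory.SimpleModule.Basic
import Mathlib.Algebra.Homology.ShortComplex.ShortExact

/-!
# Length and half exact functors
-/

universe u v w

open CategoryTheory CategoryTheory.Limits
open scoped TensorProduct

noncomputable section

namespace Groth.Agent.FlatCxLib

section Module

variable {R : Type u} [Ring R] {X Y Z : Type v} [AddCommGroup X] [Module R X] [AddCommGroup Y] [Module R Y]
  [AddCommGroup Z] [Module R Z] {f : X →ₗ[R] Y} {g : Y →ₗ[R] Z}

theorem length_eq_range_add_range (hex : Function.Exact f g) :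
    Module.length R Y = Module.length R (LinearMap.range f) + Module.length R (LinearMap.range g) :=
  Module.length_eq_add_of_exact (LinearMap.range f).subtype g.rangeRestrict
    (Submodule.injective_subtype _) g.surjective_rangeRestrict (by
      rw [LinearMap.exact_iff, LinearMap.ker_rangeRestrict, Submodule.range_subtype, hex.linearMap_ker_eq])

theorem length_range_le (f : X →ₗ[R] Y) : Module.length R (LinearMap.range f) ≤ Module.length R X :=
  Module.length_le_of_surjective f.rangeRestrict f.surjective_rangeRestrict

theorem length_le_of_exact (hex : Function.Exact f g) :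
    Module.length R Y ≤ Module.length R X + Module.length R Z := by
  rw [length_eq_range_add_range hex]
  exact add_le_add (length_range_le f) (Module.length_le_of_injective _ (Submodule.injective_subtype _))

theorem length_eq_iff_of_exact (hex : Function.Exact f g) (hX : Module.length R X ≠ ⊤)
    (hZ : Module.length R Z ≠ ⊤) :
    Module.length R Y = Module.length R X + Module.length R Z ↔
      Function.Injective f ∧ Function.Surjective g := by
  refine ⟨fun h => ?_, fun ⟨hf, hg⟩ => Module.length_eq_add_of_exact f g hf hg hex⟩
  rw [length_eq_range_add_range hex] at h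
  have h1 := length_range_le f
  have h2 : Module.length R (LinearMap.range g) ≤ Module.length R Z :=
    Module.length_le_of_injective _ (Submodule.injective_subtype _)
  have e1 : Module.length R (LinearMap.range f) = Module.length R X := by
    refine le_antisymm h1 (not_lt.1 fun hlt => ?_)
    exact (ENat.add_lt_add_of_lt_of_le (ne_top_of_le_ne_top hZ h2) hlt h2).ne h
  rw [e1] at h
  have e2 : Module.length R (LinearMap.range g) = Module.length R Z := ENat.add_right_injective_of_ne_top hX h
  constructor
  · rw [← LinearMap.ker_eq_bot, ← Submodule.subsingleton_iff_eq_bot, ← Module.length_eq_zero_iff (R := R)]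
    have := Module.length_eq_add_of_exact (LinearMap.ker f).subtype f.rangeRestrict
      (Submodule.injective_subtype _) f.surjective_rangeRestrict
      (by rw [LinearMap.exact_iff, LinearMap.ker_rangeRestrict, Submodule.range_subtype])
    rw [e1] at this
    conv_lhs at this => rw [← zero_add (Module.length R X)]
    exact (ENat.add_left_injective_of_ne_top hX this).symm
  · rw [← LinearMap.range_eq_top]
    by_contra hne
    have hfin := isFiniteLength_iff_isNoetherian_isArtinian.1 (Module.length_ne_top_iff.1 hZ)
    have := hfin.1
    have := hfin.2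
    exact (Submodule.length_lt hne).ne e2

end Module

section Functor

variable {A : Type u} {B : Type w} [Ring A] [Ring B] (F : ModuleCat.{v} A ⥤ ModuleCat.{v} B)
  [F.PreservesZeroMorphisms]
  (hF : ∀ S : ShortComplex (ModuleCat.{v} A), S.ShortExact → (S.map F).Exact)

include hF in
theorem length_map_le_mul (d : ℕ∞)
    (hS : ∀ M : ModuleCat.{v} A, IsSimpleModule A M → Module.length B (F.obj M) ≤ d)
    (E : ModuleCat.{v} A) (hE : Module.length A E ≠ ⊤) :
    Module.length B (F.obj E) ≤ d * Module.length A E := by
  suffices ∀ (M : Type v) [AddCommGroup M] [Module A M], IsFiniteLength A M →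
      Module.length B (F.obj (ModuleCat.of A M)) ≤ d * Module.length A M from
    this E (Module.length_ne_top_iff.1 hE)
  intro M _ _ h
  induction h with
  | @of_subsingleton M _ _ _ =>
    have := ModuleCat.subsingleton_of_isZero (F.map_isZero (ModuleCat.isZero_of_subsingleton (ModuleCat.of A M)))
    simp
  | @of_simple_quotient M _ _ N hsimp _ ih =>
    let S := ShortComplex.mk (ModuleCat.ofHom N.subtype) (ModuleCat.ofHom N.mkQ)
      (ModuleCat.hom_ext (LinearMap.ext fun x => (Submodule.Quotient.mk_eq_zero N).2 x.2))
    have hse : S.ShortExact :=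
      { exact := (ShortComplex.ShortExact.moduleCat_exact_iff_function_exact S).2 (LinearMap.exact_subtype_mkQ N)
        mono_f := (ModuleCat.mono_iff_injective _).2 N.injective_subtype
        epi_g := (ModuleCat.epi_iff_surjective _).2 N.mkQ_surjective }
    refine (length_le_of_exact ((ShortComplex.ShortExact.moduleCat_exact_iff_function_exact _).1
      (hF S hse))).trans ?_
    rw [Module.length_eq_add_of_exact N.subtype N.mkQ N.injective_subtype N.mkQ_surjective
      (LinearMap.exact_subtype_mkQ N), mul_add]
    refine add_le_add ih ?_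
    rw [Module.length_eq_one A (M ⧸ N), mul_one]
    exact hS (ModuleCat.of A (M ⧸ N)) hsimp

include hF in
theorem length_map_ne_top
    (hS : ∀ M : ModuleCat.{v} A, IsSimpleModule A M → Module.length B (F.obj M) ≠ ⊤)
    (E : ModuleCat.{v} A) (hE : Module.length A E ≠ ⊤) : Module.length B (F.obj E) ≠ ⊤ := by
  suffices ∀ (M : Type v) [AddCommGroup M] [Module A M], IsFiniteLength A M →
      Module.length B (F.obj (ModuleCat.of A M)) ≠ ⊤ from
    this E (Module.length_ne_top_iff.1 hE)
  intro M _ _ h
  induction h with
  | @of_subsingleton M _ _ _ =>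
    have := ModuleCat.subsingleton_of_isZero (F.map_isZero (ModuleCat.isZero_of_subsingleton (ModuleCat.of A M)))
    simp
  | @of_simple_quotient M _ _ N hsimp _ ih =>
    let S := ShortComplex.mk (ModuleCat.ofHom N.subtype) (ModuleCat.ofHom N.mkQ)
      (ModuleCat.hom_ext (LinearMap.ext fun x => (Submodule.Quotient.mk_eq_zero N).2 x.2))
    have hse : S.ShortExact :=
      { exact := (ShortComplex.ShortExact.moduleCat_exact_iff_function_exact S).2 (LinearMap.exact_subtype_mkQ N)
        mono_f := (ModuleCat.mono_iff_injective _).2 N.injective_subtype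
        epi_g := (ModuleCat.epi_iff_surjective _).2 N.mkQ_surjective }
    exact ne_top_of_le_ne_top (WithTop.add_ne_top.2 ⟨ih, hS (ModuleCat.of A (M ⧸ N)) hsimp⟩)
      (length_le_of_exact ((ShortComplex.ShortExact.moduleCat_exact_iff_function_exact _).1 (hF S hse)))

include hF in
theorem length_map_eq_iff {S : ShortComplex (ModuleCat.{v} A)} (hS : S.ShortExact)
    (h1 : Module.length B (F.obj S.X₁) ≠ ⊤) (h3 : Module.length B (F.obj S.X₃) ≠ ⊤) :
    Module.length B (F.obj S.X₂) = Module.length B (F.obj S.X₁) + Module.length B (F.obj S.X₃) ↔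
      (S.map F).ShortExact := by
  refine (length_eq_iff_of_exact ((ShortComplex.ShortExact.moduleCat_exact_iff_function_exact _).1 (hF S hS)) h1 h3).trans ?_
  exact ⟨fun ⟨hf, hg⟩ =>
    { exact := hF S hS
      mono_f := (ModuleCat.mono_iff_injective _).2 hf
      epi_g := (ModuleCat.epi_iff_surjective _).2 hg },
    fun h => ⟨h.moduleCat_injective_f, h.moduleCat_surjective_g⟩⟩

end Functor

section Complex

variable {A : Type u} [CommRing A] (P : ChainComplex (ModuleCat.{u} A) ℤ) [hP : ∀ i, Module.Flat A (P.X i)]
  (p : ℤ)

omit hP in
theorem additive_TFun : (CohIII.TFun P p).Additive where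
  map_add {_ _} {g g'} := ModuleCat.hom_ext (Tmap_add P p g.hom g'.hom)

theorem halfExact_TFun (S : ShortComplex (ModuleCat.{u} A)) (hS : S.ShortExact) :
    haveI := additive_TFun P p
    (S.map (CohIII.TFun P p)).Exact :=
  haveI := additive_TFun P p
  (ShortComplex.ShortExact.moduleCat_exact_iff_function_exact _).2
    (Tmap_exact P p hS.moduleCat_injective_f hS.moduleCat_surjective_g
      ((ShortComplex.ShortExact.moduleCat_exact_iff_function_exact S).1 hS.exact))

variable [IsArtinianRing A] [IsLocalRing A]

omit hP [IsArtinianRing A] in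
theorem length_simple (M : ModuleCat.{u} A) (hM : IsSimpleModule A M) :
    Module.length A (CohIII.T P p M) =
      Module.length A (CohIII.T P p (ModuleCat.of A (IsLocalRing.ResidueField A))) := by
  obtain ⟨I, hI, ⟨e⟩⟩ := isSimpleModule_iff_quot_maximal.1 hM
  obtain rfl := IsLocalRing.eq_maximalIdeal hI
  exact ((CohIII.TFun P p).mapIso (e.trans (LinearEquiv.refl A (IsLocalRing.ResidueField A))).toModuleIso).toLinearEquiv.length_eq

theorem length_T_le (M : ModuleCat.{u} A) (hM : Module.length A M ≠ ⊤) :
    Module.length A (CohIII.T P p M) ≤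
      Module.length A (CohIII.T P p (ModuleCat.of A (IsLocalRing.ResidueField A))) * Module.length A M :=
  haveI := additive_TFun P p
  length_map_le_mul (CohIII.TFun P p) (halfExact_TFun P p) _
    (fun M hM => (length_simple P p M hM).le) M hM

theorem exact_of_length_eq
    (hd : Module.length A (CohIII.T P p (ModuleCat.of A (IsLocalRing.ResidueField A))) ≠ ⊤)
    (hj : Module.length A (CohIII.T P p (ModuleCat.of A A)) =
      Module.length A (CohIII.T P p (ModuleCat.of A (IsLocalRing.ResidueField A))) * Module.length A A) :
    (CohIII.TFun P p).PreservesMonomorphisms ∧ (CohIII.TFun P p).PreservesEpimorphisms := by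
  have hex : Function.Exact (IsLocalRing.maximalIdeal A).subtype
      (Algebra.linearMap A (IsLocalRing.ResidueField A)) := fun x =>
    Ideal.Quotient.eq_zero_iff_mem.trans ⟨fun hx => ⟨⟨x, hx⟩, rfl⟩, fun ⟨y, hy⟩ => hy ▸ y.2⟩
  have hi := Submodule.injective_subtype (IsLocalRing.maximalIdeal A)
  have hlen := Module.length_eq_add_of_exact _ (Algebra.linearMap A (IsLocalRing.ResidueField A)) hi
    IsLocalRing.residue_surjective hex
  have hk : Module.length A (IsLocalRing.ResidueField A) = 1 :=
    haveI : IsSimpleModule A (IsLocalRing.ResidueField A) :=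
      isSimpleModule_iff_quot_maximal.2 ⟨IsLocalRing.maximalIdeal A, inferInstance, ⟨LinearEquiv.refl A _⟩⟩
    Module.length_eq_one A _
  have hm := length_T_le P p (ModuleCat.of A (IsLocalRing.maximalIdeal A)) Module.length_ne_top
  have hT : Function.Exact (Tmap P p (IsLocalRing.maximalIdeal A).subtype) (toResidue P p) :=
    Tmap_exact P p hi IsLocalRing.residue_surjective hex
  have htop := ne_top_of_le_ne_top (WithTop.mul_ne_top hd Module.length_ne_top) hm
  obtain ⟨hinj, hsurj⟩ := (length_eq_iff_of_exact hT htop hd).1 <| by
    refine le_antisymm (length_le_of_exact hT) ?_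
    rw [hj, hlen, hk, mul_add, mul_one]
    exact add_le_add hm le_rfl
  refine ⟨(preservesMono_iff P p).2 ?_, (preservesEpi_iff_surjective_artinian P p).2 hsurj⟩
  exact Groth.Agent.FlatH4.flat_of_isNilpotent (IsLocalRing.maximalIdeal A)
    (by rw [← IsLocalRing.jacobson_eq_maximalIdeal ⊥ bot_ne_top]; exact IsArtinianRing.isNilpotent_jacobson_bot)
    ((map_injective_iff_injective P (ModuleCat.ofHom (IsLocalRing.maximalIdeal A).subtype) hi p).1 hinj)
    (inferInstanceAs (Module.Flat (IsLocalRing.ResidueField A) (IsLocalRing.ResidueField A ⊗[A] Cok P p)))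

theorem length_eq_of_exact
    (h : (CohIII.TFun P p).PreservesMonomorphisms ∧ (CohIII.TFun P p).PreservesEpimorphisms)
    (M : ModuleCat.{u} A) (hM : Module.length A M ≠ ⊤) :
    Module.length A (CohIII.T P p M) =
      Module.length A (CohIII.T P p (ModuleCat.of A (IsLocalRing.ResidueField A))) * Module.length A M := by
  have := h.1
  have := h.2
  suffices ∀ (M : Type u) [AddCommGroup M] [Module A M], IsFiniteLength A M →
      Module.length A (CohIII.T P p (ModuleCat.of A M)) =
        Module.length A (CohIII.T P p (ModuleCat.of A (IsLocalRing.ResidueField A))) * Module.length A M from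
    this M (Module.length_ne_top_iff.1 hM)
  intro M _ _ hfl
  induction hfl with
  | @of_subsingleton M _ _ _ =>
    have := (theta_surjective P p h.2 M).subsingleton
    simp
  | @of_simple_quotient M _ _ N hsimp _ ih =>
    rw [Module.length_eq_add_of_exact (Tmap P p N.subtype) (Tmap P p N.mkQ)
        (have : Mono (ModuleCat.ofHom N.subtype) := (ModuleCat.mono_iff_injective _).2 N.injective_subtype
         (ModuleCat.mono_iff_injective ((CohIII.TFun P p).map (ModuleCat.ofHom N.subtype))).1 inferInstance)
        (Tmap_surjective P p h.2 N.mkQ_surjective)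
        (Tmap_exact P p N.injective_subtype N.mkQ_surjective (LinearMap.exact_subtype_mkQ N)),
      ih, length_simple P p (ModuleCat.of A (M ⧸ N)) hsimp,
      Module.length_eq_add_of_exact N.subtype N.mkQ N.injective_subtype N.mkQ_surjective
        (LinearMap.exact_subtype_mkQ N), mul_add, Module.length_eq_one A (M ⧸ N), mul_one]

end Complex

end Groth.Agent.FlatCxLib
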