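import Mathlib.Algebra.Category.ModuleCat.FilteredColimits
import Mathlib.CategoryTheory.Category.Preorder
import Mathlib.CategoryTheory.Filtered.Basic
import Mathlib.Data.Finsupp.Order
import Mathlib.Data.Finsupp.Lex
import Mathlib.Algebra.Category.ModuleCat.Abelian
import Mathlib.Algebra.Category.ModuleCat.ChangeOfRings
import Mathlib.Algebra.Module.LocalizedModule.Basic
import Mathlib.Algebra.Module.LocalizedModule.Exact
import Mathlib.Algebra.Homology.ShortComplex.ExactFunctor
import Mathlib.Algebra.Homology.ShortComplex.ModuleCat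
import Mathlib.CategoryTheory.Limits.ConcreteCategory.Basic
import Mathlib.CategoryTheory.Limits.Types.Filtered
import Mathlib.CategoryTheory.Linear.LinearFunctor
import Mathlib.RingTheory.LocalProperties.Exactness
import Mathlib.RingTheory.Localization.AtPrime.Basic

/-!
# A localization is a filtered colimit of copies of the module
-/

universe u

open CategoryTheory CategoryTheory.Limits

noncomputable section

namespace Groth.Agent.FlatCxLib

variable {A : Type u} [CommRing A] (S : Submonoid A) (M : ModuleCat.{u} A)

/-- Indices: formal products of elements of `S`. -/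
abbrev locIdx : Type u := S →₀ ℕ

/-- The value of a formal product. -/
def locProd (n : locIdx S) : S := n.prod fun s k => s ^ k

theorem locProd_add (n m : locIdx S) : locProd S (n + m) = locProd S n * locProd S m :=
  Finsupp.prod_add_index' (fun _ => pow_zero _) (fun _ _ _ => pow_add _ _ _)

theorem locProd_single (s : S) : locProd S (Finsupp.single s 1) = s :=
  (Finsupp.prod_single_index (pow_zero s)).trans (pow_one s)

theorem locProd_sub {n m : locIdx S} (h : n ≤ m) : locProd S (m - n) * locProd S n = locProd S m := by
  rw [← locProd_add, tsub_add_cancel_of_le h]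

/-- The diagram of copies of `M`. -/
def locDiagram : locIdx S ⥤ ModuleCat.{u} A where
  obj _ := M
  map {n m} _ := ModuleCat.ofHom ((locProd S (m - n) : A) • LinearMap.id)
  map_id n := ModuleCat.hom_ext (LinearMap.ext fun x => by simp [locProd])
  map_comp {n m k} f g := ModuleCat.hom_ext (LinearMap.ext fun x => by
    change (locProd S (k - n) : A) • x = (locProd S (k - m) : A) • (locProd S (m - n) : A) • x
    rw [smul_smul, ← Submonoid.coe_mul, ← locProd_add, tsub_add_tsub_cancel (leOfHom g) (leOfHom f)])

theorem mk_eq_mk' {n : locIdx S} (x : M) {m : locIdx S} (h : n ≤ m) :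
    LocalizedModule.mk ((locProd S (m - n) : A) • x) (locProd S m) = LocalizedModule.mk x (locProd S n) :=
  LocalizedModule.mk_eq.2 ⟨1, by
    simp only [one_smul, Submonoid.smul_def, smul_smul, ← locProd_sub S h, Submonoid.coe_mul, mul_comm]⟩

/-- `x ↦ x / π(n)`. -/
def locι (n : locIdx S) : M →ₗ[A] LocalizedModule S M where
  toFun x := LocalizedModule.mk x (locProd S n)
  map_add' x y := by
    rw [LocalizedModule.mk_add_mk, LocalizedModule.mk_eq]
    exact ⟨1, by simp only [one_smul, Submonoid.smul_def, smul_add, smul_smul, Submonoid.coe_mul]⟩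
  map_smul' a x := by rw [RingHom.id_apply, LocalizedModule.smul'_mk]

theorem locι_zero : locι S M 0 = LocalizedModule.mkLinearMap S M :=
  LinearMap.ext fun x => congrArg (LocalizedModule.mk x) (show locProd S 0 = 1 from Finsupp.prod_zero_index)

theorem smul_locι (n : locIdx S) (x : M) :
    (locProd S n : A) • locι S M n x = LocalizedModule.mkLinearMap S M x := by
  change (locProd S n : A) • LocalizedModule.mk x (locProd S n) = LocalizedModule.mk x 1
  rw [LocalizedModule.smul'_mk]
  exact LocalizedModule.mk_eq.2 ⟨1, by simp [Submonoid.smul_def]⟩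

/-- The cocone to the localization. -/
def locCocone : Cocone (locDiagram S M) where
  pt := ModuleCat.of A (LocalizedModule S M)
  ι :=
    { app := fun n => ModuleCat.ofHom (locι S M n)
      naturality := fun _ _ f => ModuleCat.hom_ext (LinearMap.ext fun x => mk_eq_mk' S M x (leOfHom f)) }

theorem locι_surjective (x : LocalizedModule S M) : ∃ (n : locIdx S) (y : M), x = locι S M n y := by
  induction x using LocalizedModule.induction_on with
  | h m s => exact ⟨Finsupp.single s 1, m, (congrArg (LocalizedModule.mk m) (locProd_single S s)).symm⟩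

theorem locι_eq {i j : locIdx S} {xi xj : M} (h : locι S M i xi = locι S M j xj) :
    ∃ (k : locIdx S) (f : i ⟶ k) (g : j ⟶ k),
      ((locDiagram S M).map f).hom xi = ((locDiagram S M).map g).hom xj := by
  obtain ⟨u, hu⟩ := LocalizedModule.mk_eq.1 (show LocalizedModule.mk xi (locProd S i) =
    LocalizedModule.mk xj (locProd S j) from h)
  simp only [Submonoid.smul_def, smul_smul] at hu
  refine ⟨i + j + Finsupp.single u 1, homOfLE (le_self_add.trans le_self_add),
    homOfLE (le_add_self.trans le_self_add), ?_⟩
  change (locProd S (i + j + Finsupp.single u 1 - i) : A) • xi =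
    (locProd S (i + j + Finsupp.single u 1 - j) : A) • xj
  rw [show i + j + Finsupp.single u 1 - i = Finsupp.single u 1 + j by
      rw [add_assoc, add_tsub_cancel_left, add_comm],
    show i + j + Finsupp.single u 1 - j = Finsupp.single u 1 + i by
      rw [add_comm i j, add_assoc, add_tsub_cancel_left, add_comm],
    locProd_add, locProd_add, locProd_single, Submonoid.coe_mul, Submonoid.coe_mul]
  exact hu

/-- The localization is the colimit. -/
def locCoconeIsColimit : IsColimit (locCocone S M) :=
  isColimitOfReflects (forget (ModuleCat.{u} A)) <| Types.FilteredColimit.isColimitOf _ _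
    (fun x => locι_surjective S M x) (fun _ _ _ _ h => locι_eq S M h)

variable (T : ModuleCat.{u} A ⥤ ModuleCat.{u} A) [T.Additive] [T.Linear A]
  (hT : ∀ (J : Type u) [SmallCategory J] [IsFiltered J], PreservesColimitsOfShape J T)

omit [T.Additive] in
theorem map_smul_end {N : ModuleCat.{u} A} (a : A) (y : T.obj N) :
    (T.map (ModuleCat.ofHom (a • (LinearMap.id : N →ₗ[A] N)))).hom y = a • y := by
  rw [show ModuleCat.ofHom (a • (LinearMap.id : N →ₗ[A] N)) = a • 𝟙 N from rfl, T.map_smul, T.map_id]
  rfl

omit [T.Additive] in
include hT in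
theorem isLocalizedModule_map :
    IsLocalizedModule S (T.map (ModuleCat.ofHom (LocalizedModule.mkLinearMap S M) :
      M ⟶ ModuleCat.of A (LocalizedModule S M))).hom := by
  let N := ModuleCat.of A (LocalizedModule S M)
  have := hT (locIdx S)
  have hc : IsColimit (T.mapCocone (locCocone S M)) := isColimitOfPreserves T (locCoconeIsColimit S M)
  let ι : locIdx S → (M ⟶ N) := fun n => ModuleCat.ofHom (locι S M n)
  have hι : ∀ (n : locIdx S) (w : T.obj M), (locProd S n : A) • (T.map (ι n)).hom w =
      (T.map (ModuleCat.ofHom (LocalizedModule.mkLinearMap S M) : M ⟶ N)).hom w := by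
    intro n w
    rw [← map_smul_end T (locProd S n : A), ← ModuleCat.comp_apply, ← T.map_comp]
    exact congrArg (fun f => (T.map f).hom w) (ModuleCat.hom_ext (LinearMap.ext (smul_locι S M n)))
  refine ⟨fun s => ?_, fun y => ?_, fun {x y} hxy => ?_⟩
  · have hu := IsLocalizedModule.map_units (LocalizedModule.mkLinearMap S M) s
    rw [Module.End.isUnit_iff] at hu ⊢
    let e : N ≅ N := (LinearEquiv.ofBijective ((s : A) • (LinearMap.id : N →ₗ[A] N)) hu).toModuleIso
    rw [show ⇑(algebraMap A (Module.End A (T.obj N)) (s : A)) = ⇑(T.mapIso e).toLinearEquiv from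
      funext fun y => (map_smul_end T (N := N) (s : A) y).symm]
    exact LinearEquiv.bijective _
  · obtain ⟨n, (w : T.obj M), (hw : (T.map (ι n)).hom w = y)⟩ :=
      Concrete.isColimit_exists_rep _ hc (show ToType (T.mapCocone (locCocone S M)).pt from y)
    exact ⟨⟨w, locProd S n⟩, (congrArg ((locProd S n : A) • ·) hw.symm).trans (hι n w)⟩
  · have h0 : (ModuleCat.ofHom (LocalizedModule.mkLinearMap S M) : M ⟶ N) = ι 0 :=
      ModuleCat.hom_ext (locι_zero S M).symm
    rw [h0] at hxy
    obtain ⟨k, f, g, hk⟩ := (Concrete.isColimit_rep_eq_iff_exists (i := (0 : locIdx S)) (j := (0 : locIdx S))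
      _ hc x y).1 hxy
    refine ⟨locProd S (k - 0), ?_⟩
    rw [Subsingleton.elim g f] at hk
    exact ((map_smul_end T _ x).symm.trans hk).trans (map_smul_end T _ y)

omit [T.Additive] in
include hT in
theorem map_localized {M N : ModuleCat.{u} A} (f : M ⟶ N) :
    haveI := isLocalizedModule_map S M T hT
    haveI := isLocalizedModule_map S N T hT
    IsLocalizedModule.map S (T.map (ModuleCat.ofHom (LocalizedModule.mkLinearMap S M))).hom
        (T.map (ModuleCat.ofHom (LocalizedModule.mkLinearMap S N))).hom (T.map f).hom =
      (T.map (ModuleCat.ofHom (IsLocalizedModule.map S (LocalizedModule.mkLinearMap S M)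
        (LocalizedModule.mkLinearMap S N) f.hom))).hom := by
  have := isLocalizedModule_map S M T hT
  have := isLocalizedModule_map S N T hT
  refine IsLocalizedModule.linearMap_ext S (T.map (ModuleCat.ofHom (LocalizedModule.mkLinearMap S M))).hom
    (T.map (ModuleCat.ofHom (LocalizedModule.mkLinearMap S N))).hom (LinearMap.ext fun x => ?_)
  rw [LinearMap.comp_apply, LinearMap.comp_apply]
  refine (IsLocalizedModule.map_apply S (T.map (ModuleCat.ofHom (LocalizedModule.mkLinearMap S M))).hom
    (T.map (ModuleCat.ofHom (LocalizedModule.mkLinearMap S N))).hom (T.map f).hom x).trans ?_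
  rw [← ModuleCat.comp_apply, ← T.map_comp, ← ModuleCat.comp_apply, ← T.map_comp]
  refine congrArg (fun f => (T.map f).hom x) (ModuleCat.hom_ext (LinearMap.ext fun y => ?_))
  exact (IsLocalizedModule.map_apply S (LocalizedModule.mkLinearMap S M) (LocalizedModule.mkLinearMap S N) f.hom y).symm

section Maximal

variable (m : Ideal A) [m.IsPrime]

/-- `S_m` as a short complex of `A_m`-modules. -/
def locShort (C : ShortComplex (ModuleCat.{u} A)) : ShortComplex (ModuleCat.{u} (Localization.AtPrime m)) :=
  ShortComplex.mk
    (ModuleCat.ofHom (X := LocalizedModule m.primeCompl C.X₁) (Y := LocalizedModule m.primeCompl C.X₂)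
      (LocalizedModule.map m.primeCompl C.f.hom))
    (ModuleCat.ofHom (Y := LocalizedModule m.primeCompl C.X₃) (LocalizedModule.map m.primeCompl C.g.hom))
    (ModuleCat.hom_ext (LinearMap.ext fun x => by
      induction x using LocalizedModule.induction_on with
      | h x s =>
        change LocalizedModule.map m.primeCompl C.g.hom (LocalizedModule.map m.primeCompl C.f.hom
          (LocalizedModule.mk x s)) = 0
        rw [LocalizedModule.map_mk, LocalizedModule.map_mk, ← ModuleCat.comp_apply, C.zero]
        exact LocalizedModule.zero_mk s))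

theorem restrict_map {M N : ModuleCat.{u} A} (f : M ⟶ N) :
    ⇑(LocalizedModule.map m.primeCompl f.hom) =
      ⇑(IsLocalizedModule.map m.primeCompl (LocalizedModule.mkLinearMap m.primeCompl M)
        (LocalizedModule.mkLinearMap m.primeCompl N) f.hom) := funext fun x => by
  induction x using LocalizedModule.induction_on with
  | h a s =>
    rw [LocalizedModule.map_mk, IsLocalizedModule.mk_eq_mk', IsLocalizedModule.mk_eq_mk', IsLocalizedModule.map_mk']

theorem locShort_shortExact {C : ShortComplex (ModuleCat.{u} A)} (hC : C.ShortExact) :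
    (locShort m C).ShortExact where
  exact := (ShortComplex.ShortExact.moduleCat_exact_iff_function_exact _).2 (by
    change Function.Exact ⇑(LocalizedModule.map m.primeCompl C.f.hom) ⇑(LocalizedModule.map m.primeCompl C.g.hom)
    rw [restrict_map, restrict_map]
    exact LocalizedModule.map_exact m.primeCompl C.f.hom C.g.hom
      ((ShortComplex.ShortExact.moduleCat_exact_iff_function_exact C).1 hC.exact))
  mono_f := (ModuleCat.mono_iff_injective _).2 (by
    change Function.Injective ⇑(LocalizedModule.map m.primeCompl C.f.hom)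
    rw [restrict_map]
    exact IsLocalizedModule.map_injective _ _ _ _ hC.moduleCat_injective_f)
  epi_g := (ModuleCat.epi_iff_surjective _).2 (by
    change Function.Surjective ⇑(LocalizedModule.map m.primeCompl C.g.hom)
    rw [restrict_map]
    exact IsLocalizedModule.map_surjective _ _ _ _ hC.moduleCat_surjective_g)

/-- Restricting `M_m` back to `A`. -/
def restrictIso (M : ModuleCat.{u} A) :
    (ModuleCat.restrictScalars (algebraMap A (Localization.AtPrime m))).obj
        (ModuleCat.of (Localization.AtPrime m) (LocalizedModule m.primeCompl M)) ≅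
      ModuleCat.of A (LocalizedModule m.primeCompl M) :=
  LinearEquiv.toModuleIso
    ({ (AddEquiv.refl (LocalizedModule m.primeCompl M)) with
        map_smul' := fun a x => algebraMap_smul (Localization.AtPrime m) a (show LocalizedModule m.primeCompl M from x) } :
      ↥((ModuleCat.restrictScalars (algebraMap A (Localization.AtPrime m))).obj
        (ModuleCat.of (Localization.AtPrime m) (LocalizedModule m.primeCompl M))) ≃ₗ[A]
        LocalizedModule m.primeCompl M)

include hT in
omit [T.Additive] in
theorem map_restrict {M N : ModuleCat.{u} A} (f : M ⟶ N)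
    (g : (ModuleCat.restrictScalars (algebraMap A (Localization.AtPrime m)) ⋙ T).obj
        (ModuleCat.of (Localization.AtPrime m) (LocalizedModule m.primeCompl M)) ⟶
      (ModuleCat.restrictScalars (algebraMap A (Localization.AtPrime m)) ⋙ T).obj
        (ModuleCat.of (Localization.AtPrime m) (LocalizedModule m.primeCompl N)))
    (hg : g = (ModuleCat.restrictScalars (algebraMap A (Localization.AtPrime m)) ⋙ T).map
      (ModuleCat.ofHom (LocalizedModule.map m.primeCompl f.hom))) (x) :
    haveI := isLocalizedModule_map m.primeCompl M T hT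
    haveI := isLocalizedModule_map m.primeCompl N T hT
    (T.mapIso (restrictIso m N)).toLinearEquiv (g.hom x) =
      IsLocalizedModule.map m.primeCompl (T.map (ModuleCat.ofHom (LocalizedModule.mkLinearMap m.primeCompl M))).hom
        (T.map (ModuleCat.ofHom (LocalizedModule.mkLinearMap m.primeCompl N))).hom (T.map f).hom
        ((T.mapIso (restrictIso m M)).toLinearEquiv x) := by
  subst hg
  rw [map_localized m.primeCompl T hT f]
  change (T.map (restrictIso m N).hom).hom ((T.map _).hom x) = (T.map _).hom ((T.map (restrictIso m M).hom).hom x)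
  rw [← ModuleCat.comp_apply, ← T.map_comp, ← ModuleCat.comp_apply, ← T.map_comp]
  refine congrArg (fun f => (T.map f).hom x) (ModuleCat.hom_ext (LinearMap.ext fun y => ?_))
  exact congrFun (restrict_map m f) y

end Maximal

/-- `T` of the localization map. -/
abbrev tloc (m : Ideal A) [m.IsPrime] (M : ModuleCat.{u} A) :
    T.obj M →ₗ[A] T.obj (ModuleCat.of A (LocalizedModule m.primeCompl M)) :=
  (T.map (ModuleCat.ofHom (LocalizedModule.mkLinearMap m.primeCompl M) :
    M ⟶ ModuleCat.of A (LocalizedModule m.primeCompl M))).hom

section LocalExact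

include hT

omit [T.Additive] in
theorem exact_of_forall_maximal {C : ShortComplex (ModuleCat.{u} A)}
    (h : ∀ (m : Ideal A) [m.IsMaximal], Function.Exact
      ((ModuleCat.restrictScalars (algebraMap A (Localization.AtPrime m)) ⋙ T).map (locShort m C).f).hom
      ((ModuleCat.restrictScalars (algebraMap A (Localization.AtPrime m)) ⋙ T).map (locShort m C).g).hom) :
    Function.Exact (T.map C.f).hom (T.map C.g).hom := by
  refine @exact_of_isLocalized_maximal A (T.obj C.X₁) (T.obj C.X₂) (T.obj C.X₃) _ _ _ _ _ _ _
    (fun m _ => T.obj (ModuleCat.of A (LocalizedModule m.primeCompl C.X₁))) _ _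
    (fun m _ => tloc T m C.X₁) (fun m _ => isLocalizedModule_map m.primeCompl C.X₁ T hT)
    (fun m _ => T.obj (ModuleCat.of A (LocalizedModule m.primeCompl C.X₂))) _ _
    (fun m _ => tloc T m C.X₂) (fun m _ => isLocalizedModule_map m.primeCompl C.X₂ T hT)
    (fun m _ => T.obj (ModuleCat.of A (LocalizedModule m.primeCompl C.X₃))) _ _
    (fun m _ => tloc T m C.X₃) (fun m _ => isLocalizedModule_map m.primeCompl C.X₃ T hT)
    (T.map C.f).hom (T.map C.g).hom fun m _ => ?_
  exact Function.Exact.of_ladder_linearEquiv_of_exact
    (e₁ := (T.mapIso (restrictIso m C.X₁)).toLinearEquiv) (e₂ := (T.mapIso (restrictIso m C.X₂)).toLinearEquiv)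
    (e₃ := (T.mapIso (restrictIso m C.X₃)).toLinearEquiv)
    (LinearMap.ext fun x => (map_restrict T hT m C.f _ rfl x).symm)
    (LinearMap.ext fun x => (map_restrict T hT m C.g _ rfl x).symm) (h m)

omit [T.Additive] in
theorem injective_of_forall_maximal {C : ShortComplex (ModuleCat.{u} A)}
    (h : ∀ (m : Ideal A) [m.IsMaximal], Function.Injective
      ((ModuleCat.restrictScalars (algebraMap A (Localization.AtPrime m)) ⋙ T).map (locShort m C).f).hom) :
    Function.Injective (T.map C.f).hom := by
  refine @injective_of_isLocalized_maximal A (T.obj C.X₁) (T.obj C.X₂) _ _ _ _ _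
    (fun m _ => T.obj (ModuleCat.of A (LocalizedModule m.primeCompl C.X₁))) _ _
    (fun m _ => tloc T m C.X₁) (fun m _ => isLocalizedModule_map m.primeCompl C.X₁ T hT)
    (fun m _ => T.obj (ModuleCat.of A (LocalizedModule m.primeCompl C.X₂))) _ _
    (fun m _ => tloc T m C.X₂) (fun m _ => isLocalizedModule_map m.primeCompl C.X₂ T hT)
    (T.map C.f).hom fun m _ => ?_
  intro a b hab
  obtain ⟨a, rfl⟩ := (T.mapIso (restrictIso m C.X₁)).toLinearEquiv.surjective a
  obtain ⟨b, rfl⟩ := (T.mapIso (restrictIso m C.X₁)).toLinearEquiv.surjective b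
  rw [← map_restrict T hT m C.f _ rfl a, ← map_restrict T hT m C.f _ rfl b] at hab
  exact congrArg _ (h m ((LinearEquiv.injective _) hab))

omit [T.Additive] in
theorem surjective_of_forall_maximal {C : ShortComplex (ModuleCat.{u} A)}
    (h : ∀ (m : Ideal A) [m.IsMaximal], Function.Surjective
      ((ModuleCat.restrictScalars (algebraMap A (Localization.AtPrime m)) ⋙ T).map (locShort m C).g).hom) :
    Function.Surjective (T.map C.g).hom := by
  refine @surjective_of_isLocalized_maximal A (T.obj C.X₂) (T.obj C.X₃) _ _ _ _ _
    (fun m _ => T.obj (ModuleCat.of A (LocalizedModule m.primeCompl C.X₂))) _ _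
    (fun m _ => tloc T m C.X₂) (fun m _ => isLocalizedModule_map m.primeCompl C.X₂ T hT)
    (fun m _ => T.obj (ModuleCat.of A (LocalizedModule m.primeCompl C.X₃))) _ _
    (fun m _ => tloc T m C.X₃) (fun m _ => isLocalizedModule_map m.primeCompl C.X₃ T hT)
    (T.map C.g).hom fun m _ => ?_
  intro b
  obtain ⟨b, rfl⟩ := (T.mapIso (restrictIso m C.X₃)).toLinearEquiv.surjective b
  obtain ⟨a, rfl⟩ := h m b
  exact ⟨_, (map_restrict T hT m C.g _ rfl a).symm⟩

end LocalExact

end Groth.Agent.FlatCxLib
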